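import Groth.Agent.SDiv.K474.FittBlow
import Groth.Agent.SDiv.K474.FittLoc
import Groth.Agent.Fitt.K360.Fiber
import Groth.Agent.Divis.CartierStalk
import Groth.Agent.Divis.StalkMod
import Groth.Agent.Ega2.QCohLocal
import Groth.Prelude.Def_FlatMod2

/-!
# The closed subscheme cut out by the zeroth Fitting ideal of a module which is locally cyclic

* `exists_stalkEquiv`: at a point off the support of `Fit_1(F)`, the stalk of `F` is the local ring of the
  subscheme `Z` of `Fit_0(F)`;
* `flat_stalkMap`: if `F` is flat over `S` at such a point, so is `Z`;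
* `sheafIdeal_push_zero`: `Fit_0(δ_* O_D)` is the ideal of `D` for a closed immersion `δ`.
-/

set_option autoImplicit false
universe u
open CategoryTheory CategoryTheory.Limits AlgebraicGeometry TopologicalSpace

namespace K354.GraphZ

open Groth.Agent Groth.Agent.SDiv.K474.FittSheaf Groth.Agent.SDiv.K474.FittLoc Groth.Agent.Divis.CartierBasic
  Groth.Agent.Divis.CartierStalk

section Alg

variable {R M : Type*} [CommRing R] [AddCommGroup M] [Module R M]

/-- The zeroth Fitting ideal of a cyclic module. -/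
theorem mem_ideal_zero_iff (m : M) (h : ∀ x : M, ∃ a : R, a • m = x) (a : R) :
    a ∈ Fitt.ideal R M 0 ↔ a • m = 0 := by
  let φ : R →ₗ[R] M := LinearMap.toSpanSingleton R M m
  have hφ : Function.Surjective φ := fun x => by
    obtain ⟨a, ha⟩ := h x
    exact ⟨a, ha⟩
  have : Module.Finite R M := Module.Finite.of_surjective φ hφ
  have e : (R ⧸ LinearMap.ker φ) ≃ₗ[R] M := φ.quotKerEquivOfSurjective hφ
  have h1 : Fitt.ideal R M 0 = LinearMap.ker φ := by
    rw [← K360.FittBasic.ideal_congr e 0]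
    exact K360.FittFiber.ideal_zero_quotient (LinearMap.ker φ)
  rw [h1, LinearMap.mem_ker]
  rfl

end Alg

/-- Transport of flatness along a semilinear equivalence. -/
theorem flat_ringHom {R A B M : Type u} [CommRing R] [CommRing A] [CommRing B] [AddCommGroup M] [Module A M]
    (φ : R →+* A) (ψ : A →+* B) (e : M ≃+ B) (he : ∀ (a : A) (m : M), e (a • m) = ψ a * e m)
    (h : letI := Module.compHom M φ; Module.Flat R M) : (ψ.comp φ).Flat := by
  let _ : Algebra R B := (ψ.comp φ).toAlgebra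
  let _ : Module R M := Module.compHom M φ
  have h' : Module.Flat R M := h
  let e' : M ≃ₗ[R] B := { e with map_smul' := fun r m => he (φ r) m }
  exact Module.Flat.of_linearEquiv e'.symm

section Stalk

variable {V S : Scheme.{u}} (F : V.Modules) (hF : Coh.IsQCoh F) (hft : CohB1.IsFT F)

include hF hft

/-- The stalk of `F` is cyclic, with annihilator the stalk of `Fit_0(F)`. -/
theorem exists_gen (v : V) (hv : v ∉ (Fitt.sheafIdeal F 1).support) :
    ∃ μ : F.presheaf.stalk v, (∀ x : F.presheaf.stalk v, ∃ r : V.presheaf.stalk v, r • μ = x) ∧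
      ∀ r : V.presheaf.stalk v, r • μ = 0 ↔ r ∈ stalkIdeal (Fitt.sheafIdeal F 0) v := by
  obtain ⟨U, hU, e, hvU, -, he⟩ := exists_span_of_not_mem_support F hF hft 1 v hv ⊤ trivial
  have hspan : ∀ x : Γ(F, U), ∃ a : Γ(V, U), a • e 0 = x := fun x => by
    have hx : x ∈ Submodule.span Γ(V, U) (Set.range e) := by rw [he]; trivial
    have hr : Set.range e = {e 0} := by
      ext y
      constructor
      · rintro ⟨i, rfl⟩
        rw [Subsingleton.elim i 0]
        rfl
      · rintro rfl
        exact ⟨0, rfl⟩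
    rw [hr, Submodule.mem_span_singleton] at hx
    exact hx
  have hI : ∀ a : Γ(V, U), a ∈ (Fitt.sheafIdeal F 0).ideal ⟨U, hU⟩ ↔ a • e 0 = 0 := fun a => by
    rw [sheafIdeal_ideal F hF hft]
    exact mem_ideal_zero_iff (e 0) hspan a
  refine ⟨F.presheaf.germ U v hvU (e 0), ?_, ?_⟩
  · intro x
    refine Divis.StalkMod.stalk_elim F hF hU v hvU ?_
    intro _ _ _ _ l hl halg _
    obtain ⟨⟨y, t⟩, hy⟩ := IsLocalizedModule.surj (hU.primeIdealOf ⟨v, hvU⟩).asIdeal.primeCompl l x
    obtain ⟨a, rfl⟩ := hspan y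
    have hut : IsUnit (algebraMap Γ(V, U) (V.presheaf.stalk v) t) :=
      IsLocalization.map_units (V.presheaf.stalk v) t
    obtain ⟨w, hw⟩ := hut
    refine ⟨(↑w⁻¹ : V.presheaf.stalk v) * algebraMap Γ(V, U) (V.presheaf.stalk v) a, ?_⟩
    rw [mul_smul, ← hl, algebraMap_smul, ← map_smul, ← hy]
    change (↑w⁻¹ : V.presheaf.stalk v) • ((t : Γ(V, U)) • x) = x
    rw [← algebraMap_smul (V.presheaf.stalk v) (t : Γ(V, U)) x, ← hw, smul_smul, Units.inv_mul, one_smul]
  · intro r
    rw [stalkIdeal_eq (Fitt.sheafIdeal F 0) ⟨U, hU⟩ hvU]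
    refine Divis.StalkMod.stalk_elim F hF hU v hvU ?_
    intro _ _ _ _ l hl halg _
    have halg' : (V.presheaf.germ U v hvU).hom = algebraMap Γ(V, U) (V.presheaf.stalk v) :=
      RingHom.ext fun a => (halg a).symm
    obtain ⟨a, t, hat⟩ := IsLocalization.exists_mk'_eq (hU.primeIdealOf ⟨v, hvU⟩).asIdeal.primeCompl r
    have h1 : r * algebraMap Γ(V, U) (V.presheaf.stalk v) t = algebraMap Γ(V, U) (V.presheaf.stalk v) a := by
      rw [← hat]
      exact IsLocalization.mk'_spec (V.presheaf.stalk v) a t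
    have hut : IsUnit (algebraMap Γ(V, U) (V.presheaf.stalk v) t) :=
      IsLocalization.map_units (V.presheaf.stalk v) t
    rw [← hl]
    constructor
    · intro h
      have h2 : l (a • e 0) = l 0 := by
        rw [map_smul, ← algebraMap_smul (V.presheaf.stalk v) a, ← h1, mul_comm, mul_smul, h, smul_zero, map_zero]
      obtain ⟨c, hc⟩ := (IsLocalizedModule.eq_iff_exists (hU.primeIdealOf ⟨v, hvU⟩).asIdeal.primeCompl l).1 h2
      have h3 : (c : Γ(V, U)) * a ∈ (Fitt.sheafIdeal F 0).ideal ⟨U, hU⟩ := by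
        rw [hI, mul_smul]
        rw [smul_zero] at hc
        exact hc
      have h4 := Ideal.mem_map_of_mem (V.presheaf.germ U v hvU).hom h3
      rw [map_mul, halg', ← h1, mul_comm r, ← mul_assoc, ← map_mul] at h4
      have hcu : IsUnit (algebraMap Γ(V, U) (V.presheaf.stalk v) (c * t)) := by
        rw [map_mul]
        exact (IsLocalization.map_units (V.presheaf.stalk v) c).mul hut
      rw [halg']
      exact (Ideal.unit_mul_mem_iff_mem _ hcu).1 h4
    · intro h
      have h5 : Ideal.map (V.presheaf.germ U v hvU).hom ((Fitt.sheafIdeal F 0).ideal ⟨U, hU⟩) ≤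
          LinearMap.ker (LinearMap.toSpanSingleton (V.presheaf.stalk v) _ (l (e 0))) := by
        rw [Ideal.map_le_iff_le_comap]
        intro b hb
        have hb' : b • e 0 = 0 := (hI b).1 hb
        have h6 : (V.presheaf.germ U v hvU).hom b • l (e 0) = 0 := by
          rw [halg', algebraMap_smul, ← map_smul, hb', map_zero]
        exact h6
      exact h5 h

/-- The stalk of `F` as the local ring of the subscheme cut out by `Fit_0(F)`. -/
theorem exists_stalkEquiv (z : (Fitt.sheafIdeal F 0).subscheme)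
    (hz : (Fitt.sheafIdeal F 0).subschemeι z ∉ (Fitt.sheafIdeal F 1).support) :
    ∃ e : F.presheaf.stalk ((Fitt.sheafIdeal F 0).subschemeι z) ≃+
        (Fitt.sheafIdeal F 0).subscheme.presheaf.stalk z,
      ∀ (r : V.presheaf.stalk ((Fitt.sheafIdeal F 0).subschemeι z))
        (m : F.presheaf.stalk ((Fitt.sheafIdeal F 0).subschemeι z)),
        e (r • m) = ((Fitt.sheafIdeal F 0).subschemeι.stalkMap z).hom r * e m := by
  obtain ⟨μ, h1, h2⟩ := exists_gen F hF hft _ hz
  let I := Fitt.sheafIdeal F 0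
  let A := V.presheaf.stalk (I.subschemeι z)
  let φ : A →ₗ[A] F.presheaf.stalk (I.subschemeι z) := LinearMap.toSpanSingleton A _ μ
  have hφ : Function.Surjective φ := fun x => by
    obtain ⟨r, hr⟩ := h1 x
    exact ⟨r, hr⟩
  have hker : LinearMap.ker φ = stalkIdeal I (I.subschemeι z) := by
    ext r
    rw [LinearMap.mem_ker]
    exact h2 r
  let e1 : (A ⧸ LinearMap.ker φ) ≃ₗ[A] F.presheaf.stalk (I.subschemeι z) := φ.quotKerEquivOfSurjective hφ
  let e2 : (A ⧸ LinearMap.ker φ) ≃ₗ[A] (A ⧸ stalkIdeal I (I.subschemeι z)) := Submodule.quotEquivOfEq _ _ hker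
  let e3 : (A ⧸ stalkIdeal I (I.subschemeι z)) ≃+* I.subscheme.presheaf.stalk z := stalkQuotEquiv I z
  refine ⟨(e1.symm.trans e2).toAddEquiv.trans e3.toAddEquiv, fun r m => ?_⟩
  change e3 ((e1.symm.trans e2) (r • m)) = (I.subschemeι.stalkMap z).hom r * e3 ((e1.symm.trans e2) m)
  rw [map_smul]
  generalize (e1.symm.trans e2) m = q
  obtain ⟨a, rfl⟩ := Ideal.Quotient.mk_surjective q
  change e3 (Ideal.Quotient.mk _ (r * a)) = _
  rw [map_mul, map_mul]
  rfl

/-- Flatness of `F` gives flatness of the subscheme. -/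
theorem flat_stalkMap (f : V ⟶ S) (z : (Fitt.sheafIdeal F 0).subscheme)
    (hz : (Fitt.sheafIdeal F 0).subschemeι z ∉ (Fitt.sheafIdeal F 1).support)
    (h : FlatMod.IsFlatOverAt f F ((Fitt.sheafIdeal F 0).subschemeι z)) :
    (((Fitt.sheafIdeal F 0).subschemeι ≫ f).stalkMap z).hom.Flat := by
  obtain ⟨e, he⟩ := exists_stalkEquiv F hF hft z hz
  have h1 : (((Fitt.sheafIdeal F 0).subschemeι ≫ f).stalkMap z).hom =
      ((Fitt.sheafIdeal F 0).subschemeι.stalkMap z).hom.comp (f.stalkMap ((Fitt.sheafIdeal F 0).subschemeι z)).hom :=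
    congr($(Scheme.Hom.stalkMap_comp (Fitt.sheafIdeal F 0).subschemeι f z).hom)
  rw [h1]
  exact flat_ringHom _ _ e he h

end Stalk

section Push

variable {D W : Scheme.{u}} (δ : D ⟶ W)

/-- The module `δ_* O_D`. -/
noncomputable abbrev pushO : W.Modules := (Scheme.Modules.pushforward δ).obj (Coh.structureModule D)

/-- The section `1` of `δ_* O_D`. -/
noncomputable def one (U : W.Opens) : Γ(pushO δ, U) := (1 : Γ(D, δ ⁻¹ᵁ U))

lemma smul_one (U : W.Opens) (a : Γ(W, U)) :
    a • one δ U = (show Γ(pushO δ, U) from (δ.app U).hom a) := by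
  change (δ.app U).hom a * (1 : Γ(D, δ ⁻¹ᵁ U)) = (δ.app U).hom a
  rw [mul_one]

lemma push_cyclic [IsClosedImmersion δ] (U : W.Opens) (hU : IsAffineOpen U) (x : Γ(pushO δ, U)) :
    ∃ a : Γ(W, U), a • one δ U = x := by
  obtain ⟨a, ha⟩ := δ.app_surjective U hU x
  exact ⟨a, (smul_one δ U a).trans ha⟩

lemma smul_one_eq_zero_iff (U : W.Opens) (a : Γ(W, U)) : a • one δ U = 0 ↔ (δ.app U).hom a = 0 := by
  rw [smul_one]
  rfl

variable [IsClosedImmersion δ]

/-- `Fit_0(δ_* O_D)` is the ideal of `D`. -/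
theorem sheafIdeal_push_zero (h1 : Coh.IsQCoh (pushO δ)) (h2 : CohB1.IsFT (pushO δ)) :
    Fitt.sheafIdeal (pushO δ) 0 = δ.ker := by
  refine Scheme.IdealSheafData.ext (funext fun U => ?_)
  rw [sheafIdeal_ideal _ h1 h2, Scheme.Hom.ker_apply]
  ext a
  rw [mem_ideal_zero_iff (one δ U.1) (push_cyclic δ U.1 U.2), smul_one_eq_zero_iff, RingHom.mem_ker]

/-- `δ_* O_D` is locally cyclic. -/
theorem notMem_support (h1 : Coh.IsQCoh (pushO δ)) (h2 : CohB1.IsFT (pushO δ)) (w : W) :
    w ∉ (Fitt.sheafIdeal (pushO δ) 1).support := by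
  obtain ⟨U, hU, hw, -⟩ := exists_isAffineOpen_mem_and_subset (x := w) (U := ⊤) trivial
  refine not_mem_support_of_span _ h1 h2 1 w hU (fun _ => one δ U) hw ?_
  rw [eq_top_iff]
  rintro x -
  obtain ⟨a, rfl⟩ := push_cyclic δ U hU x
  exact Submodule.smul_mem _ _ (Submodule.subset_span ⟨0, rfl⟩)

end Push

section Pull

variable {V W D : Scheme.{u}} (g : W ⟶ V) (F : V.Modules) (hF : Coh.IsQCoh F) (hft : CohB1.IsFT F)
  (δ : D ⟶ W) [IsClosedImmersion δ]

include hF hft

/-- The pull-back of the subscheme cut out by `Fit_0(F)`, when `g^* F ≅ δ_* O_D`. -/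
theorem comap_eq (e : (Scheme.Modules.pullback g).obj F ≅ pushO δ) :
    (Fitt.sheafIdeal F 0).comap g = δ.ker := by
  have hq : Coh.IsQCoh ((Scheme.Modules.pullback g).obj F) := by
    have : F.IsQuasicoherent := hF
    exact CohqA.PullbackQCoh.isQuasicoherent_pullback g F
  have hft' := isFT_pullback g F hF hft
  have hq' : Coh.IsQCoh (pushO δ) := Ega2.QCohLocal.isQCoh_of_iso e hq
  have hft'' : CohB1.IsFT (pushO δ) := SDiv.K474.FittBlow.isFT_iso e hq hq' hft'
  rw [sheafIdeal_comap g F hF hft, SDiv.K474.FittBlow.sheafIdeal_iso e hq hq' hft' hft'',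
    sheafIdeal_push_zero δ hq' hft'']

/-- `F` is locally cyclic at the points of `g`. -/
theorem notMem_support_of_iso (e : (Scheme.Modules.pullback g).obj F ≅ pushO δ) (w : W) :
    g w ∉ (Fitt.sheafIdeal F 1).support := by
  have hq : Coh.IsQCoh ((Scheme.Modules.pullback g).obj F) := by
    have : F.IsQuasicoherent := hF
    exact CohqA.PullbackQCoh.isQuasicoherent_pullback g F
  have hft' := isFT_pullback g F hF hft
  have hq' : Coh.IsQCoh (pushO δ) := Ega2.QCohLocal.isQCoh_of_iso e hq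
  have hft'' : CohB1.IsFT (pushO δ) := SDiv.K474.FittBlow.isFT_iso e hq hq' hft'
  have h := notMem_support δ hq' hft'' w
  rw [← SDiv.K474.FittBlow.sheafIdeal_iso e hq hq' hft' hft'', ← sheafIdeal_comap g F hF hft] at h
  intro hw
  apply h
  rw [Scheme.IdealSheafData.support_comap]
  exact hw

end Pull

end K354.GraphZ
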