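import Groth.Agent.DEquiv.K354.Adj
import Groth.Agent.Dcoh.DualX
import Groth.Agent.Dcoh.MonAdj
import Groth.Prelude.Def_DualFM

/-!
# The functors `FMK.phi` in terms of the monoidal structure on `D(O)`

* `phiIso a b K : FMK.phi a b K ≅ Ph pr₁ pr₂ (Q K)`;
* `nonempty_phiSwap`: `FMK.phi b a K'` for `K'` the pullback along the symmetry of an object `K₀` on `X ×_S Y` is
  `Ph pr₂ pr₁ K₀`;
* `nonempty_RSheafHom`: `RHom(K, -) ≅ - ⊗ K^∨` for `K` perfect.
-/

set_option autoImplicit false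

universe u

open CategoryTheory Limits MonoidalCategory AlgebraicGeometry

attribute [local instance] HasDerivedCategory.standard

open scoped Groth.Agent.Dcoh.MonCat Groth.Agent.Dcoh.ModD

namespace K354.FM

open Groth.Agent.Dcoh K354.Adj

section Phi

variable {S X Y : Scheme.{u}} (a : X ⟶ S) (b : Y ⟶ S)

/-- `FMK.phi` in terms of the monoidal structure. -/
noncomputable def phiIso (K : CochainComplex (pullback a b).Modules ℤ)
    [DCoh.HasLpull (pullback.fst a b)] [DCoh.HasLTensorCx K] [DCoh.HasRpush (pullback.snd a b)] :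
    FMK.phi a b K ≅ Ph (pullback.fst a b) (pullback.snd a b) (DCoh.toD _ K) :=
  Functor.isoWhiskerLeft _ (Functor.isoWhiskerRight (ModTens.LTensorCxIso K) _)

/-- `FMK.phiOn`, after inclusion. -/
noncomputable def phiOnIso (K : CochainComplex (pullback a b).Modules ℤ)
    [DCoh.HasLpull (pullback.fst a b)] [DCoh.HasLTensorCx K] [DCoh.HasRpush (pullback.snd a b)]
    (P : ObjectProperty (DCoh.D X)) (Q : ObjectProperty (DCoh.D Y))
    (h : ∀ M : DCoh.D X, P M → Q ((FMK.phi a b K).obj M)) :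
    FMK.phiOn a b K P Q h ⋙ Q.ι ≅ P.ι ⋙ Ph (pullback.fst a b) (pullback.snd a b) (DCoh.toD _ K) :=
  Functor.isoWhiskerLeft P.ι (phiIso a b K)

/-- The functor with kernel transported along the symmetry. -/
theorem nonempty_phiSwap (K' : CochainComplex (pullback b a).Modules ℤ) (K₀ : DCoh.D (pullback a b))
    [DCoh.HasLpull (pullbackSymmetry b a).hom]
    (e : Nonempty (DCoh.toD _ K' ≅ (DCoh.Lpull (pullbackSymmetry b a).hom).obj K₀))
    [DCoh.HasLpull (pullback.fst b a)] [DCoh.HasLTensorCx K'] [DCoh.HasRpush (pullback.snd b a)]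
    [DCoh.HasLpull (pullback.snd a b)] [DCoh.HasRpush (pullback.fst a b)] :
    Nonempty (FMK.phi b a K' ≅ Ph (pullback.snd a b) (pullback.fst a b) K₀) := by
  obtain ⟨e⟩ := e
  obtain ⟨e'⟩ := nonempty_phConj (pullbackSymmetry b a).hom (pullback.snd a b) (pullback.fst a b)
    (pullback.fst b a) (pullback.snd b a) (pullbackSymmetry_hom_comp_snd b a) (pullbackSymmetry_hom_comp_fst b a) K₀
  exact ⟨phiIso b a K' ≪≫ phCongr _ _ e ≪≫ e'⟩

end Phi

section Dual

variable {X : Scheme.{u}}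

/-- `RHom(K, -) ≅ - ⊗ K^∨` for `K` perfect, `K^∨ = RHom(K, 1)`. -/
theorem nonempty_RSheafHom (K : CochainComplex X.Modules ℤ) (hK : DCoh.IsPerfect (DCoh.toD _ K))
    [DCoh.HasLTensorCx K] [DCoh.HasRSheafHom K] :
    Nonempty (DCoh.RSheafHom K ≅ tensorRight ((DCoh.RSheafHom K).obj (𝟙_ (DCoh.D X)))) := by
  let hp := DualX.exactPairing hK (ModTens.adjQ K)
  obtain ⟨e⟩ := MonAdj.nonempty_dual (K := DCoh.toD _ K) ((DCoh.RSheafHom K).obj (𝟙_ (DCoh.D X)))
    ⟨ModTens.LTensorCxIso K⟩ (DCoh.RSheafHomAdj K)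
  exact ⟨e.symm⟩

end Dual

end K354.FM
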