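import Groth.Agent.DEquiv.K354.ClosedProjF
import Groth.Agent.DEquiv.K354.FM

/-!
# The Fourier–Mukai functor with kernel the structure sheaf of the diagonal is the identity
-/

set_option autoImplicit false

universe u

open CategoryTheory Limits MonoidalCategory AlgebraicGeometry

attribute [local instance] HasDerivedCategory.standard

open scoped Groth.Agent.Dcoh.MonCat Groth.Agent.Dcoh.ModD

namespace K354.Diag

open Groth.Agent.Dcoh K354.Adj K354.FM K354.ClosedProjF Groth.Agent.PerfC.DTens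

variable {X : Scheme.{u}}

/-- `L(𝟙)^* ≅ 𝟭`. -/
noncomputable def lpullId (X : Scheme.{u}) [DCoh.HasLpull (𝟙 X)] : DCoh.Lpull (𝟙 X) ≅ 𝟭 (DCoh.D X) :=
  Groth.Agent.PerfB.BCSch.dPull.idI X

/-- `R(𝟙)_* ≅ 𝟭`. -/
noncomputable def rpushId (X : Scheme.{u}) [DCoh.HasRpush (𝟙 X)] : DCoh.Rpush (𝟙 X) ≅ 𝟭 (DCoh.D X) :=
  haveI := DerPull.hasLpull (𝟙 X)
  ((Adjunction.id.ofNatIsoLeft (lpullId X).symm).rightAdjointUniq (DerPull.lpullAdj (𝟙 X))).symm

/-- `O_X` as a complex. -/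
noncomputable abbrev OCx (X : Scheme.{u}) : CochainComplex X.Modules ℤ :=
  (HomologicalComplex.single X.Modules (ComplexShape.up ℤ) 0).obj (Coh.structureModule X)

/-- `O_X ⊗ᴸ -` is the identity. -/
theorem nonempty_tensO (X : Scheme.{u}) :
    Nonempty ((LTX X).obj (DerivedCategory.Q.obj (OCx X)) ≅ 𝟭 (DCoh.D X)) := by
  obtain ⟨e⟩ := PerfDual.nonempty_objIso (DerivedCategory.Q.obj (OCx X))
  exact ⟨e ≪≫ leftUnitorNatIso (DCoh.D X)⟩

/-- `f_* O_Z` in degree `0`. -/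
noncomputable def pushO {Z : Scheme.{u}} (f : Z ⟶ X) :
    DerivedCategory.Q.obj (((Scheme.Modules.pushforward f).mapHomologicalComplex (ComplexShape.up ℤ)).obj (OCx Z)) ≅
      DCoh.inD X ((Coh.push f).obj (Coh.structureModule Z)) :=
  DerivedCategory.Q.mapIso ((HomologicalComplex.singleMapHomologicalComplex (Scheme.Modules.pushforward f)
    (ComplexShape.up ℤ) 0).app (Coh.structureModule Z)) ≪≫
    ((DerivedCategory.singleFunctorIsoCompQ X.Modules 0).app _).symm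

/-- Tensoring with `i_* O` for a closed immersion `i`. -/
theorem nonempty_tensPushO {Z : Scheme.{u}} (i : Z ⟶ X) [IsClosedImmersion i] [DCoh.HasRpush i] [DCoh.HasLpull i]
    (K : DCoh.D X) (e : K ≅ DCoh.inD X ((Coh.push i).obj (Coh.structureModule Z))) :
    Nonempty (tensorRight K ≅ DCoh.Lpull i ⋙ DCoh.Rpush i) := by
  obtain ⟨e1⟩ := MonSymm293.weakSymm K
  obtain ⟨e2⟩ := PerfDual.nonempty_objIso K
  obtain ⟨e3⟩ := nonempty_projClosed i (OCx Z)
  obtain ⟨e4⟩ := nonempty_tensO Z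
  exact ⟨e1.symm ≪≫ e2.symm ≪≫ (LTX X).mapIso (e ≪≫ (pushO i).symm) ≪≫ e3 ≪≫
    Functor.isoWhiskerLeft (DCoh.Lpull i) (Functor.isoWhiskerRight e4 (DCoh.Rpush i))⟩

/-- S13565. -/
theorem main {S X : Scheme.{u}} (a : X ⟶ S) [IsSeparated a]
    (K : CochainComplex (Limits.pullback a a).Modules ℤ) (hK : Nonempty (DCoh.toD _ K ≅ FMK.diagO a))
    [DCoh.HasLpull (Limits.pullback.fst a a)] [DCoh.HasLTensorCx K] [DCoh.HasRpush (Limits.pullback.snd a a)] :
    Nonempty (FMK.phi a a K ≅ 𝟭 (DCoh.D X)) := by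
  obtain ⟨eK⟩ := hK
  have h1 := DerPull.hasLpull (pullback.diagonal a)
  have h2 := DerSch.hasRpush (pullback.diagonal a)
  have h3 := DerPull.hasLpull (𝟙 X)
  have h4 := DerSch.hasRpush (𝟙 X)
  have h5 := DerPull.hasLpull (pullback.diagonal a ≫ pullback.fst a a)
  have h6 := DerSch.hasRpush (pullback.diagonal a ≫ pullback.snd a a)
  obtain ⟨e1⟩ := nonempty_tensPushO (pullback.diagonal a) (DCoh.toD _ K) eK
  let eL : DCoh.Lpull (pullback.fst a a) ⋙ DCoh.Lpull (pullback.diagonal a) ≅ 𝟭 (DCoh.D X) :=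
    DerPull.lpullCompIso (pullback.diagonal a) (pullback.fst a a) ≪≫
      DerPull.lpullCongr (pullback.diagonal_fst a) ≪≫ lpullId X
  let eR : DCoh.Rpush (pullback.diagonal a) ⋙ DCoh.Rpush (pullback.snd a a) ≅ 𝟭 (DCoh.D X) :=
    DerPull.rpushComp (pullback.diagonal a) (pullback.snd a a) ≪≫
      DerPull.rpushCongr (pullback.diagonal_snd a) ≪≫ rpushId X
  exact ⟨phiIso a a K ≪≫
    Functor.isoWhiskerLeft (DCoh.Lpull (pullback.fst a a))
      (Functor.isoWhiskerRight e1 (DCoh.Rpush (pullback.snd a a))) ≪≫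
    Functor.isoWhiskerRight eL (DCoh.Rpush (pullback.diagonal a) ⋙ DCoh.Rpush (pullback.snd a a)) ≪≫ eR⟩

end K354.Diag
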