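import Groth.Agent.Dual.H362.TensAdj
import Groth.Agent.Dcoh.DerPull2
import Groth.Agent.Dcoh.DerPush2
import Groth.Agent.PerfB.BCSch
import Groth.Prelude.Def_DDual2
import Groth.Prelude.Def_Dual3

/-!
# Adjoints of Fourier–Mukai type functors `Rq_* (Lp^*(-) ⊗ K)`

For `p : P ⟶ X`, `q : P ⟶ Y` and `K ∈ D(O_P)`, `Ph p q K = Lp^* ⋙ (- ⊗ K) ⋙ Rq_*`.

* `adjRight`: if `a` is right adjoint to `Rq_*` on `D_QCoh` with `a ≅ Lq^*(-) ⊗ ω` and `(K, K')` is an exact pairing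
  of perfect objects, then on `D_QCoh` the functor `Ph p q K` is left adjoint to `Ph q p (ω ⊗ K')`;
* `adjLeft`: if `a` is right adjoint to `Rp_*` on `D_QCoh` with `a ≅ Lp^*(-) ⊗ ω`, `ω` invertible, then
  `Ph p q K` is right adjoint to `Ph q p (K' ⊗ ω)`.
Both in a form which applies to any full subcategories contained in `D_QCoh`.
-/

set_option autoImplicit false

universe u

open CategoryTheory Limits MonoidalCategory AlgebraicGeometry

attribute [local instance] HasDerivedCategory.standard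

open scoped Groth.Agent.Dcoh.MonCat Groth.Agent.Dcoh.ModD

namespace K354.Adj

open Groth.Agent.Dcoh Groth.Agent.Dual.H362.TensAdj

section Cat

universe v₁ v₂ v₃ u₁ u₂ u₃

variable {C : Type u₁} [Category.{v₁} C] {D : Type u₂} [Category.{v₂} D] {E : Type u₃} [Category.{v₃} E]

/-- Functors into a full subcategory which agree after inclusion are isomorphic. -/
noncomputable def isoOfι (P : ObjectProperty C) {F G : E ⥤ P.FullSubcategory} (e : F ⋙ P.ι ≅ G ⋙ P.ι) : F ≅ G :=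
  Functor.fullyFaithfulCancelRight P.ι e

/-- Restriction of an adjunction between full subcategories to smaller full subcategories. -/
noncomputable def adjRestrict {P P₁ : ObjectProperty C} {Q Q₁ : ObjectProperty D} (hP : P₁ ≤ P) (hQ : Q₁ ≤ Q)
    {F' : P.FullSubcategory ⥤ Q.FullSubcategory} {G' : Q.FullSubcategory ⥤ P.FullSubcategory} (adj : F' ⊣ G')
    {F : P₁.FullSubcategory ⥤ Q₁.FullSubcategory} {G : Q₁.FullSubcategory ⥤ P₁.FullSubcategory}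
    (eF : ObjectProperty.ιOfLE hP ⋙ F' ⋙ Q.ι ≅ F ⋙ Q₁.ι)
    (eG : ObjectProperty.ιOfLE hQ ⋙ G' ⋙ P.ι ≅ G ⋙ P₁.ι) : F ⊣ G :=
  adj.restrictFullyFaithful (ObjectProperty.fullyFaithfulιOfLE hP) (ObjectProperty.fullyFaithfulιOfLE hQ)
    (isoOfι Q (F := ObjectProperty.ιOfLE hP ⋙ F') (G := F ⋙ ObjectProperty.ιOfLE hQ) eF)
    (isoOfι P (F := ObjectProperty.ιOfLE hQ ⋙ G') (G := G ⋙ ObjectProperty.ιOfLE hP) eG)

end Cat

variable {X Y P : Scheme.{u}} (p : P ⟶ X) (q : P ⟶ Y)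

section

variable [DCoh.HasLpull p] [DCoh.HasRpush q]

/-- The Fourier–Mukai type functor `M ↦ Rq_* (Lp^* M ⊗ K)`. -/
noncomputable abbrev Ph (K : DCoh.D P) : DCoh.D X ⥤ DCoh.D Y :=
  DCoh.Lpull p ⋙ tensorRight K ⋙ DCoh.Rpush q

/-- `Ph` only depends on `K` up to isomorphism. -/
noncomputable def phCongr {K L : DCoh.D P} (e : K ≅ L) : Ph p q K ≅ Ph p q L :=
  Functor.isoWhiskerLeft _ (Functor.isoWhiskerRight ((tensoringRight (DCoh.D P)).mapIso e) _)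

end

/-- `Lp^*` on `D_QCoh`. -/
noncomputable abbrev pullQ [DCoh.HasLpull p] : DCoh.DQCoh X ⥤ DCoh.DQCoh P :=
  ObjectProperty.lift _ (ObjectProperty.ι _ ⋙ DCoh.Lpull p) fun K => Groth.Agent.S1054.result p K.obj K.property

/-- `Lp^* ⊣ Rp_*` on `D_QCoh`. -/
noncomputable def pullPushAdjQ [DCoh.HasLpull p] [DCoh.HasRpush p] (hp : DCoh.RpushPreservesQCoh p) :
    pullQ p ⊣ DCoh.RpushQ p hp :=
  (DerPull.lpullAdj p).restrictFullyFaithful (DCoh.IsQCohD (X := X)).fullyFaithfulι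
    (DCoh.IsQCohD (X := P)).fullyFaithfulι (Iso.refl _) (Iso.refl _)

section Main

variable [DCoh.HasLpull p] [DCoh.HasRpush p] [DCoh.HasLpull q] [DCoh.HasRpush q]

/-- The right adjoint of `Ph p q K` on `D_QCoh`. -/
theorem adjRight (hp : DCoh.RpushPreservesQCoh p) (hq : DCoh.RpushPreservesQCoh q)
    (K K' : DCoh.D P) (hK : DCoh.IsPerfect K) (hK' : DCoh.IsPerfect K') [ExactPairing K K']
    (a : DCoh.DQCoh Y ⥤ DCoh.DQCoh P) (adj : DCoh.RpushQ q hq ⊣ a) (ω : DCoh.D P)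
    (e : a ⋙ ObjectProperty.ι _ ≅ ObjectProperty.ι _ ⋙ DCoh.Lpull q ⋙ tensorRight ω)
    {PX : ObjectProperty (DCoh.D X)} (hX : PX ≤ DCoh.IsQCohD)
    {PY : ObjectProperty (DCoh.D Y)} (hY : PY ≤ DCoh.IsQCohD)
    {F : PX.FullSubcategory ⥤ PY.FullSubcategory} {G : PY.FullSubcategory ⥤ PX.FullSubcategory}
    (eF : F ⋙ PY.ι ≅ PX.ι ⋙ Ph p q K) (eG : G ⋙ PX.ι ≅ PY.ι ⋙ Ph q p (ω ⊗ K')) :
    Nonempty (F ⊣ G) := by
  have hKq : DCoh.IsQCohD K := Groth.Agent.PerfA.QCohD.isQCohD_of_isPerfect K hK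
  have hKq' : DCoh.IsQCohD K' := Groth.Agent.PerfA.QCohD.isQCohD_of_isPerfect K' hK'
  have adjK : tensQ hKq ⊣ tensQ hKq' :=
    (tensorRightAdjunction K K').restrictFullyFaithful (DCoh.IsQCohD (X := P)).fullyFaithfulι
      (DCoh.IsQCohD (X := P)).fullyFaithfulι (Iso.refl _) (Iso.refl _)
  have adj' := (pullPushAdjQ p hp).comp (adjK.comp adj)
  refine ⟨adjRestrict hX hY adj' eF.symm ?_⟩
  refine ?_ ≪≫ eG.symm
  exact Functor.isoWhiskerLeft (ObjectProperty.ιOfLE hY)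
    (Functor.isoWhiskerRight e (tensorRight K' ⋙ DCoh.Rpush p) ≪≫
      Functor.isoWhiskerLeft (ObjectProperty.ι _ ⋙ DCoh.Lpull q)
        (Functor.isoWhiskerRight (tensorRightTensor ω K').symm (DCoh.Rpush p)))

/-- The left adjoint of `Ph p q K` on `D_QCoh`. -/
theorem adjLeft (hp : DCoh.RpushPreservesQCoh p) (hq : DCoh.RpushPreservesQCoh q)
    (K K' : DCoh.D P) (hK : DCoh.IsPerfect K) (hK' : DCoh.IsPerfect K') [ExactPairing K K']
    (a : DCoh.DQCoh X ⥤ DCoh.DQCoh P) (adj : DCoh.RpushQ p hp ⊣ a) (ω ω' : DCoh.D P)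
    (hω : DCoh.IsPerfect ω) (hω' : DCoh.IsPerfect ω') [ExactPairing ω ω'] (i : ω ⊗ ω' ≅ 𝟙_ _)
    (e : a ⋙ ObjectProperty.ι _ ≅ ObjectProperty.ι _ ⋙ DCoh.Lpull p ⋙ tensorRight ω)
    {PX : ObjectProperty (DCoh.D X)} (hX : PX ≤ DCoh.IsQCohD)
    {PY : ObjectProperty (DCoh.D Y)} (hY : PY ≤ DCoh.IsQCohD)
    {F : PX.FullSubcategory ⥤ PY.FullSubcategory} {G : PY.FullSubcategory ⥤ PX.FullSubcategory}
    (eF : F ⋙ PY.ι ≅ PX.ι ⋙ Ph p q K) (eG : G ⋙ PX.ι ≅ PY.ι ⋙ Ph q p (K' ⊗ ω)) :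
    Nonempty (G ⊣ F) := by
  have hKq : DCoh.IsQCohD K := Groth.Agent.PerfA.QCohD.isQCohD_of_isPerfect K hK
  have hKq' : DCoh.IsQCohD K' := Groth.Agent.PerfA.QCohD.isQCohD_of_isPerfect K' hK'
  have hωq : DCoh.IsQCohD ω := Groth.Agent.PerfA.QCohD.isQCohD_of_isPerfect ω hω
  have hωq' : DCoh.IsQCohD ω' := Groth.Agent.PerfA.QCohD.isQCohD_of_isPerfect ω' hω'
  have adjω : tensQ hωq ⊣ tensQ hωq' :=
    (tensorRightAdjunction ω ω').restrictFullyFaithful (DCoh.IsQCohD (X := P)).fullyFaithfulι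
      (DCoh.IsQCohD (X := P)).fullyFaithfulι (Iso.refl _) (Iso.refl _)
  obtain ⟨adjK⟩ := nonempty_tensQ_adj hKq hKq'
  have adj' := (pullPushAdjQ q hq).comp (adjK.comp (adjω.comp adj))
  refine ⟨adjRestrict hY hX adj' ?_ ?_⟩
  · refine ?_ ≪≫ eG.symm
    exact Functor.isoWhiskerLeft (PY.ι ⋙ DCoh.Lpull q)
        (Functor.isoWhiskerRight (tensorRightTensor K' ω).symm (DCoh.Rpush p))
  · refine ?_ ≪≫ eF.symm
    let j : tensorRight ω ⋙ tensorRight ω' ≅ 𝟭 (DCoh.D P) :=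
      (tensorRightTensor ω ω').symm ≪≫ (tensoringRight (DCoh.D P)).mapIso i ≪≫ rightUnitorNatIso _
    exact Functor.isoWhiskerLeft (ObjectProperty.ιOfLE hX)
      (Functor.isoWhiskerRight e (tensorRight ω' ⋙ tensorRight K ⋙ DCoh.Rpush q) ≪≫
        Functor.isoWhiskerLeft (ObjectProperty.ι _ ⋙ DCoh.Lpull p)
          (Functor.isoWhiskerRight j (tensorRight K ⋙ DCoh.Rpush q)))

end Main

section Symm

variable {P' : Scheme.{u}} (σ : P' ⟶ P) [IsIso σ]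

/-- `Lσ^*` is an equivalence for an isomorphism `σ`. -/
theorem isEquivalence_lpull [DCoh.HasLpull σ] : (DCoh.Lpull σ).IsEquivalence := by
  have h1 : DCoh.HasLpull (inv σ) := DerPull.hasLpull _
  have h2 : DCoh.HasLpull (inv σ ≫ σ) := DerPull.hasLpull _
  have h3 : DCoh.HasLpull (σ ≫ inv σ) := DerPull.hasLpull _
  have h4 : DCoh.HasLpull (𝟙 P) := DerPull.hasLpull _
  have h5 : DCoh.HasLpull (𝟙 P') := DerPull.hasLpull _
  let e1 : DCoh.Lpull σ ⋙ DCoh.Lpull (inv σ) ≅ 𝟭 (DCoh.D P) :=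
    DerPull.lpullCompIso (inv σ) σ ≪≫ DerPull.lpullCongr (IsIso.inv_hom_id σ) ≪≫
      Groth.Agent.PerfB.BCSch.dPull.idI P
  let e2 : DCoh.Lpull (inv σ) ⋙ DCoh.Lpull σ ≅ 𝟭 (DCoh.D P') :=
    DerPull.lpullCompIso σ (inv σ) ≪≫ DerPull.lpullCongr (IsIso.hom_inv_id σ) ≪≫
      Groth.Agent.PerfB.BCSch.dPull.idI P'
  exact (CategoryTheory.Equivalence.mk (DCoh.Lpull σ) (DCoh.Lpull (inv σ)) e1.symm e2).isEquivalence_functor

/-- `Lσ^* ⋙ Rσ_* ≅ 𝟭` for an isomorphism `σ`. -/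
theorem nonempty_pullPush [DCoh.HasLpull σ] [DCoh.HasRpush σ] :
    Nonempty (DCoh.Lpull σ ⋙ DCoh.Rpush σ ≅ 𝟭 (DCoh.D P)) := by
  have := isEquivalence_lpull σ
  exact ⟨(asIso (DerPull.lpullAdj σ).unit).symm⟩

/-- `Lσ^*` intertwines tensor products. -/
theorem nonempty_lpullTens {A B : Scheme.{u}} (f : A ⟶ B) [DCoh.HasLpull f] (K : DCoh.D B) :
    Nonempty (DCoh.Lpull f ⋙ tensorRight ((DCoh.Lpull f).obj K) ≅ tensorRight K ⋙ DCoh.Lpull f) := by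
  let _ := MonPull.monPull f
  let _ := MonLpull182.lpullMonoidal f
  exact ⟨Functor.Monoidal.commTensorRight (DCoh.Lpull f) K⟩

/-- Transport of a Fourier–Mukai type functor along an isomorphism `σ : P' ⟶ P`. -/
theorem nonempty_phConj (p : P ⟶ X) (q : P ⟶ Y) (p' : P' ⟶ X) (q' : P' ⟶ Y) (hp : σ ≫ p = p') (hq : σ ≫ q = q')
    [DCoh.HasLpull p] [DCoh.HasRpush q] [DCoh.HasLpull p'] [DCoh.HasRpush q'] [DCoh.HasLpull σ]
    (K : DCoh.D P) : Nonempty (Ph p' q' ((DCoh.Lpull σ).obj K) ≅ Ph p q K) := by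
  subst hp hq
  have : DCoh.HasRpush σ := DerSch.hasRpush _
  obtain ⟨e1⟩ := nonempty_pullPush σ
  obtain ⟨e2⟩ := nonempty_lpullTens σ K
  exact ⟨Functor.isoWhiskerRight (DerPull.lpullCompIso σ p).symm _ ≪≫
    Functor.isoWhiskerLeft (DCoh.Lpull p) (Functor.isoWhiskerLeft (DCoh.Lpull σ ⋙ tensorRight ((DCoh.Lpull σ).obj K))
      (DerPull.rpushComp σ q).symm ≪≫ Functor.isoWhiskerRight e2 (DCoh.Rpush σ ⋙ DCoh.Rpush q) ≪≫
      Functor.isoWhiskerLeft (tensorRight K) (Functor.isoWhiskerRight e1 (DCoh.Rpush q)))⟩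

end Symm

end K354.Adj
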