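import Groth.Agent.Dcoh.ClosedProjD
import Groth.Agent.Dcoh.MonLpull182
import Groth.Agent.Dcoh.PerfDual
import Groth.Agent.PerfC.DTens

/-!
# The projection formula along a closed immersion, as an isomorphism of functors

`nonempty_projClosed f A : (f_* A ⊗ᴸ -) ≅ Rf_* (A ⊗ᴸ Lf^* -)` as functors `D(O_X) ⥤ D(O_X)`, for a closed immersion
`f : Z ⟶ X` and an arbitrary complex `A` of `O_Z`-modules.
-/

set_option autoImplicit false

universe u

open CategoryTheory Limits MonoidalCategory AlgebraicGeometry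

attribute [local instance] HasDerivedCategory.standard

open scoped Groth.Agent.Dcoh.MonCat Groth.Agent.Dcoh.ModD

namespace K354.ClosedProjF

open Groth.Agent.Dcoh Groth.Agent.Dcoh.MonCx Groth.Agent.Dcoh.MonD Groth.Agent.Dcoh.ModD
  Groth.Agent.PerfC.DTens Groth.Agent.PerfC.CxNat Groth.Agent.Dcoh.ClosedProjD

variable {X Z : Scheme.{u}} (f : Z ⟶ X)

/-- `K ⊗ᴸ Q M` is computed by `K ⊗ M` on K-flat `M`, naturally in `M`. -/
noncomputable def tensLiftIso (K : CochainComplex X.Modules ℤ) :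
    (KF X).ι ⋙ DerivedCategory.Q ⋙ (LTX X).obj (DerivedCategory.Q.obj K) ≅
      (KF X).ι ⋙ (DCoh.tensorCx (X := X)).obj K ⋙ DerivedCategory.Q :=
  NatIso.ofComponents (fun M => κIso' K M.obj M.property) (fun φ => κX_nat₂ K φ.hom)

/-- The functor `f^*` on K-flat complexes. -/
noncomputable abbrev pullKF : (KF X).FullSubcategory ⥤ (KF Z).FullSubcategory :=
  ObjectProperty.lift _ ((KF X).ι ⋙ (Scheme.Modules.pullback f).mapHomologicalComplex (ComplexShape.up ℤ))
    fun M => KFlatInput.isKFlat_pullback f M.obj M.property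

section

variable [IsClosedImmersion f] [DCoh.HasRpush f] [DCoh.HasLpull f]

/-- `Rf_*` is computed by `f_*`, for a closed immersion. -/
noncomputable def rpushQNat : DerivedCategory.Q ⋙ DCoh.Rpush f ≅
    (Scheme.Modules.pushforward f).mapHomologicalComplex (ComplexShape.up ℤ) ⋙ DerivedCategory.Q :=
  haveI := Groth.Agent.Sga67.ClosedPush.preservesFiniteColimits_pushforward f
  Functor.isoWhiskerLeft _ (Groth.Agent.PerfC.LpullFlat.rpushIso f) ≪≫
    (Scheme.Modules.pushforward f).mapDerivedCategoryFactors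

/-- The projection formula on complexes, natural in `M`. -/
noncomputable def cxProj (A : CochainComplex Z.Modules ℤ) :
    (DCoh.tensorCx (X := X)).obj
        (((Scheme.Modules.pushforward f).mapHomologicalComplex (ComplexShape.up ℤ)).obj A) ≅
      (Scheme.Modules.pullback f).mapHomologicalComplex (ComplexShape.up ℤ) ⋙
        (DCoh.tensorCx (X := Z)).obj A ⋙
          (Scheme.Modules.pushforward f).mapHomologicalComplex (ComplexShape.up ℤ) := by
  have h : ∀ M, IsIso (natHom (ClosedProjD.projNat f) A M) := fun M => isIso_natHom (ClosedProjD.projNat f) A M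
  refine NatIso.ofComponents (fun M => @asIso _ _ _ _ _ (h M)) (fun {M N} g => ?_)
  have := natHom_naturality (ClosedProjD.projNat f) (𝟙 A) g
  rw [CategoryTheory.Functor.map_id] at this
  exact this

/-- The projection formula along a closed immersion. -/
theorem nonempty_projClosed (A : CochainComplex Z.Modules ℤ) :
    Nonempty ((LTX X).obj (DerivedCategory.Q.obj
        (((Scheme.Modules.pushforward f).mapHomologicalComplex (ComplexShape.up ℤ)).obj A)) ≅
      DCoh.Lpull f ⋙ (LTX Z).obj (DerivedCategory.Q.obj A) ⋙ DCoh.Rpush f) := by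
  let fA := ((Scheme.Modules.pushforward f).mapHomologicalComplex (ComplexShape.up ℤ)).obj A
  let G : (KF X).FullSubcategory ⥤ DCoh.D X := (KF X).ι ⋙ (DCoh.tensorCx (X := X)).obj fA ⋙ DerivedCategory.Q
  letI l1 : Localization.Lifting (LP (KF X)) (qisP (KF X)) G
      ((LTX X).obj (DerivedCategory.Q.obj fA)) := ⟨tensLiftIso fA⟩
  let e1 : LP (KF X) ⋙ DCoh.Lpull f ≅ pullKF f ⋙ LP (KF Z) := MonLpull182.lpullLiftIso f
  let e2 : pullKF f ⋙ LP (KF Z) ⋙ (LTX Z).obj (DerivedCategory.Q.obj A) ≅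
      pullKF f ⋙ (KF Z).ι ⋙ (DCoh.tensorCx (X := Z)).obj A ⋙ DerivedCategory.Q :=
    Functor.isoWhiskerLeft (pullKF f) (tensLiftIso A)
  let e3 : LP (KF X) ⋙ (DCoh.Lpull f ⋙ (LTX Z).obj (DerivedCategory.Q.obj A) ⋙ DCoh.Rpush f) ≅ G :=
    Functor.isoWhiskerRight e1 ((LTX Z).obj (DerivedCategory.Q.obj A) ⋙ DCoh.Rpush f) ≪≫
      Functor.isoWhiskerRight e2 (DCoh.Rpush f) ≪≫
      Functor.isoWhiskerLeft (pullKF f ⋙ (KF Z).ι ⋙ (DCoh.tensorCx (X := Z)).obj A) (rpushQNat f) ≪≫
      Functor.isoWhiskerLeft (KF X).ι (Functor.isoWhiskerRight (cxProj f A).symm DerivedCategory.Q)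
  letI l2 : Localization.Lifting (LP (KF X)) (qisP (KF X)) G
      (DCoh.Lpull f ⋙ (LTX Z).obj (DerivedCategory.Q.obj A) ⋙ DCoh.Rpush f) := ⟨e3⟩
  exact ⟨Localization.liftNatIso (LP (KF X)) (qisP (KF X)) G G _ _ (Iso.refl _)⟩

end

end K354.ClosedProjF
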