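import Groth.Agent.DEquiv.K354.FibFlat
import Groth.Agent.LoccohA.DzTrunc
import Mathlib.Data.Int.Interval

/-!
# Perfect complexes whose derived fibre is a module: `g^* H^0(L) ≅ Lg^* L`
-/

set_option autoImplicit false
universe u
open CategoryTheory CategoryTheory.Limits AlgebraicGeometry
attribute [local instance] HasDerivedCategory.standard

namespace K354.FibMod

open Groth.Agent Groth.Agent.PerfC Groth.Agent.PerfC.RelFlatLpull Groth.Agent.PerfC.RelFlat
  Groth.Agent.Dcoh Groth.Agent.Dcoh.LocalD Groth.Agent.CycB.StalkExact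

variable {V W S S' : Scheme.{u}} {f : V ⟶ S} {s : S' ⟶ S} {g : W ⟶ V} {q : W ⟶ S'}

/-- `Lg^* F = g^* F` for `F` flat over the base. -/
theorem nonempty_lpull_inD [Flat f] (H : IsPullback g q f s) [DCoh.HasLpull g] (F : V.Modules)
    (hF : FlatMod.IsFlatOver f F) :
    Nonempty ((DCoh.Lpull g).obj (DCoh.inD V F) ≅ DCoh.inD W ((Scheme.Modules.pullback g).obj F)) := by
  let K : CochainComplex V.Modules ℤ := (CochainComplex.singleFunctor V.Modules 0).obj F
  have hb : ∀ j, 0 < j → IsZero (K.X j) := fun j hj =>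
    HomologicalComplex.isZero_single_obj_X _ _ _ _ (by omega)
  have hK : ∀ j, FlatMod.IsFlatOver f (K.X j) := fun j => by
    by_cases hj : j = 0
    · subst hj
      exact isFlatOver_of_iso f (HomologicalComplex.singleObjXSelf (ComplexShape.up ℤ) 0 F).symm hF
    · exact isFlatOver_of_isZero f (HomologicalComplex.isZero_single_obj_X _ _ _ _ hj)
  exact ⟨(DCoh.Lpull g).mapIso ((DerivedCategory.singleFunctorIsoCompQ V.Modules 0).app F) ≪≫
    lpullRelIso (PullKFlat.pullData g) H K 0 hb hK ≪≫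
    DerivedCategory.Q.mapIso ((HomologicalComplex.singleMapHomologicalComplex (Scheme.Modules.pullback g)
      (ComplexShape.up ℤ) 0).app F) ≪≫
    ((DerivedCategory.singleFunctorIsoCompQ W.Modules 0).app ((Scheme.Modules.pullback g).obj F)).symm⟩

/-- An object with cohomology only in degree `0`. -/
theorem nonempty_iso_inD {X : Scheme.{u}} (M : DCoh.D X) (h : ∀ i : ℤ, i ≠ 0 → IsZero (DCoh.HD M i)) :
    Nonempty (M ≅ DCoh.inD X (DCoh.HD M 0)) := by
  have h1 : M.IsGE 0 := by
    rw [DerivedCategory.isGE_iff]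
    intro i hi
    exact h i (by omega)
  have h2 : M.IsLE 0 := by
    rw [DerivedCategory.isLE_iff]
    intro i hi
    exact h i (by omega)
  exact LoccohA.DzTrunc.nonempty_iso_single M 0

section

variable {V W S : Scheme.{u}} {f : V ⟶ S} {s : S} {g : W ⟶ V} {q : W ⟶ Spec (S.residueField s)}

/-- The main statement: if `L` is perfect on `V` and its derived fibre is a module `G`, then `F = H^0(L)` has fibre `G`
and is flat over `S` at the points of the fibre. -/
theorem main [IsNoetherian V] [Flat f] [LocallyOfFinitePresentation f]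
    (H : IsPullback g q f (S.fromSpecResidueField s)) [DCoh.HasLpull g]
    (L : DCoh.D V) (hL : DCoh.IsPerfect L) (G : W.Modules) (e : (DCoh.Lpull g).obj L ≅ DCoh.inD W G) :
    Nonempty ((Scheme.Modules.pullback g).obj (DCoh.HD L 0) ≅ G) ∧
      ∀ y : W, FlatMod.IsFlatOverAt f (DCoh.HD L 0) (g y) := by
  have hz : ∀ i : ℤ, i ≠ 0 → IsZero (DCoh.HD ((DCoh.Lpull g).obj L) i) := fun i hi => by
    refine IsZero.of_iso ?_ ((DerivedCategory.homologyFunctor _ i).mapIso e)
    rcases lt_or_gt_of_ne hi with h | h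
    · exact (DerivedCategory.isGE_iff (DCoh.inD W G) 0).1 inferInstance i h
    · exact (DerivedCategory.isLE_iff (DCoh.inD W G) 0).1 inferInstance i h
  have hpt := FibFlat.pointwise H L hL hz
  refine ⟨?_, fun y => (hpt y).2⟩
  obtain ⟨hcoh, a, b, hGE, hLE⟩ := S1006.result V L hL
  let N : Set V := {v | FlatMod.IsFlatOverAt f (DCoh.HD L 0) v}
  have hN : IsOpen N := Flat2G.FlatLocus.isOpen_flatLocus f (DCoh.HD L 0) (hcoh 0).1
    ((S0018.result V _).1 (hcoh 0))
  let T : Set V := ⋂ i ∈ (Finset.Icc a b).filter (· ≠ 0), (CohB1.support (DCoh.HD L i))ᶜ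
  have hT : IsOpen T := isOpen_biInter_finset fun i _ =>
    (FormalA.Support.isClosed_support _ (hcoh i).2).isOpen_compl
  let O : V.Opens := ⟨N ∩ T, hN.inter hT⟩
  have hr : Set.range g ⊆ Set.range O.ι := by
    rw [Scheme.Opens.range_ι]
    rintro _ ⟨y, rfl⟩
    refine ⟨(hpt y).2, ?_⟩
    simp only [T, Set.mem_iInter]
    intro i hi
    have hi' : i ≠ 0 := (Finset.mem_filter.1 hi).2
    intro h
    exact h ((hpt y).1 i hi')
  obtain ⟨g', rfl⟩ : ∃ g' : W ⟶ (O : Scheme.{u}), g = g' ≫ O.ι :=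
    ⟨IsOpenImmersion.lift O.ι g hr, (IsOpenImmersion.lift_fac _ _ _).symm⟩
  have hl := DerPull.hasLpull g'
  have hl' := DerPull.hasLpull O.ι
  have H' : IsPullback g' q (O.ι ≫ f) (S.fromSpecResidueField s) := by
    have h1 : IsPullback g' (𝟙 W) O.ι (g' ≫ O.ι) := IsPullback.of_vert_isIso_mono ⟨by simp⟩
    have h2 := h1.paste_vert H
    rwa [Category.id_comp] at h2
  let M := (DCoh.restrictD O.ι).obj L
  have hM : ∀ i : ℤ, i ≠ 0 → IsZero (DCoh.HD M i) := fun i hi => by
    refine IsZero.of_iso ?_ (HDRestrict O.ι L i)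
    rw [PerfB.FlatPull.isZero_iff_subsingleton]
    intro v
    refine (Ega3B.FlatRestrict.stalkEquiv O.ι (DCoh.HD L i) v).toEquiv.subsingleton_congr.2 ?_
    by_cases hab : a ≤ i ∧ i ≤ b
    · have h1 : O.ι v ∈ T := v.2.2
      simp only [T, Set.mem_iInter] at h1
      have h2 := h1 i (Finset.mem_filter.2 ⟨Finset.mem_Icc.2 hab, hi⟩)
      exact not_not.1 h2
    · have h3 : IsZero (DCoh.HD L i) := by
        by_cases hia : i < a
        · exact (DerivedCategory.isGE_iff L a).1 hGE i hia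
        · exact (DerivedCategory.isLE_iff L b).1 hLE i (by omega)
      exact (PerfB.FlatPull.isZero_iff_subsingleton _).1 h3 _
  obtain ⟨e1⟩ := nonempty_iso_inD M hM
  let F' := (DCoh.HD L 0).restrict O.ι
  have e2 : M ≅ DCoh.inD O F' := e1 ≪≫ (DerivedCategory.singleFunctor _ 0).mapIso (HDRestrict O.ι L 0)
  have hF' : FlatMod.IsFlatOver (O.ι ≫ f) F' := fun v =>
    (Ega3B.FlatRestrict.isFlatOverAt_restrict_iff_comp f O.ι _ v).2 v.2.1
  obtain ⟨e3⟩ := nonempty_lpull_inD H' F' hF'
  let e4 : (Scheme.Modules.pullback g').obj F' ≅ (Scheme.Modules.pullback (g' ≫ O.ι)).obj (DCoh.HD L 0) :=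
    (Scheme.Modules.pullback g').mapIso ((Scheme.Modules.restrictFunctorIsoPullback O.ι).app _) ≪≫
      (Scheme.Modules.pullbackComp g' O.ι).app _
  let e5 : DCoh.inD W ((Scheme.Modules.pullback (g' ≫ O.ι)).obj (DCoh.HD L 0)) ≅ DCoh.inD W G :=
    (DerivedCategory.singleFunctor _ 0).mapIso e4.symm ≪≫ e3.symm ≪≫ (DCoh.Lpull g').mapIso (e2.symm ≪≫
      (DerPull.lpullOpenIso O.ι).symm.app L) ≪≫ (DerPull.lpullCompIso g' O.ι).app L ≪≫ e
  exact ⟨((DerivedCategory.singleFunctorCompHomologyFunctorIso W.Modules 0).app _).symm ≪≫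
    (DerivedCategory.homologyFunctor _ 0).mapIso e5 ≪≫
    (DerivedCategory.singleFunctorCompHomologyFunctorIso W.Modules 0).app _⟩

end

end K354.FibMod
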