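import Groth.Agent.DEquiv.K354.Tri
import Groth.Agent.DEquiv.K354.FibMod
import Groth.Agent.Dual.H353.DiagBC

/-!
# Base change of the structure sheaf of the diagonal
-/

set_option autoImplicit false

universe u

open CategoryTheory Limits AlgebraicGeometry

attribute [local instance] HasDerivedCategory.standard

namespace K354.DiagBC

open Groth.Agent K354.Tri FMK

variable {S S' X X' : Scheme.{u}} {a : X ⟶ S} {g : S' ⟶ S} {a' : X' ⟶ S'} {x : X' ⟶ X}

/-- `L(x × x)^* Δ_* O_X ≅ Δ_* O_{X'}` for `X` flat and separated over `S`. -/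
theorem nonempty_iso (Hx : IsPullback x a' a g) [Flat a] [IsSeparated a] [DCoh.HasLpull (gmp Hx.w Hx.w)] :
    Nonempty ((DCoh.Lpull (gmp Hx.w Hx.w)).obj (diagO a) ≅ diagO a') := by
  have : Flat (pullback.diagonal a ≫ pullback.snd a a ≫ a) := by
    rw [pullback.diagonal_snd_assoc]
    infer_instance
  have hF : FlatMod.IsFlatOver (pullback.snd a a ≫ a)
      ((Scheme.Modules.pushforward (pullback.diagonal a)).obj (Coh.structureModule X)) :=
    Dual.H353.DiagBC.isFlatOver_pushforward (pullback.diagonal a) (pullback.snd a a ≫ a) _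
      (Ega2.QCohLocal.isQCoh_structureModule X)
      (PerfB.StructFlat.isFlatOver_structure (pullback.diagonal a ≫ pullback.snd a a ≫ a))
  obtain ⟨e1⟩ := FibMod.nonempty_lpull_inD (isPullback_gmp Hx Hx) _ hF
  have hq' : (Coh.structureModule X).IsQuasicoherent := Ega2.QCohLocal.isQCoh_structureModule X
  obtain ⟨e2⟩ := CohqA.AffineBaseChange.nonempty_iso (isPullback_diag Hx) (Coh.structureModule X)
  exact ⟨e1 ≪≫ (DerivedCategory.singleFunctor _ 0).mapIso (e2 ≪≫
      (Scheme.Modules.pushforward (pullback.diagonal a')).mapIso (PerfC.PullRestrict.pullbackUnit x))⟩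

end K354.DiagBC
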