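import Groth.Agent.Ega3B.FibreSpreadIso

/-!
# Sections of a morphism to the spectrum of a field, and residue fields
-/

set_option autoImplicit false
universe u
open CategoryTheory CategoryTheory.Limits AlgebraicGeometry

namespace K354.RatPt

/-- A `k`-rational point is the spectrum of the residue field of its image. -/
theorem exists_iso (k : Type u) [Field k] {S : Scheme.{u}} (pS : S ⟶ Spec (.of k)) (s : Spec (.of k) ⟶ S)
    (hs : s ≫ pS = 𝟙 _) : ∃ θ : Spec (.of k) ≅ Spec (S.residueField (s (IsLocalRing.closedPoint k))),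
      θ.hom ≫ S.fromSpecResidueField (s (IsLocalRing.closedPoint k)) = s := by
  obtain ⟨q, hq⟩ := Groth.Agent.Ega3B.FibreSpreadIso.exists_fac_fromSpecResidueField k s rfl
  let z := s (IsLocalRing.closedPoint k)
  obtain ⟨φ, rfl⟩ := Spec.map_surjective q
  obtain ⟨ψ, hψ⟩ := Spec.map_surjective (S.fromSpecResidueField z ≫ pS)
  have h1 : Spec.map (ψ ≫ φ) = 𝟙 (Spec (.of k)) := by
    rw [Spec.map_comp, hψ, ← Category.assoc, hq, hs]
  have h2 : ψ ≫ φ = 𝟙 _ := Spec.map_injective (by rw [h1, Spec.map_id])
  have hbij : Function.Bijective φ.hom := by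
    refine ⟨φ.hom.injective, fun x => ⟨ψ.hom x, ?_⟩⟩
    have := congr($(h2).hom x)
    exact this
  have : IsIso φ := (ConcreteCategory.isIso_iff_bijective φ).2 hbij
  exact ⟨asIso (Spec.map φ), hq⟩

/-- Conversion of a cartesian square over a rational point. -/
theorem isPullback_residue {k : Type u} [Field k] {S W V : Scheme.{u}} {s : Spec (.of k) ⟶ S} {z : S}
    (θ : Spec (.of k) ≅ Spec (S.residueField z)) (hθ : θ.hom ≫ S.fromSpecResidueField z = s)
    {g : W ⟶ V} {q : W ⟶ Spec (.of k)} {f : V ⟶ S} (H : IsPullback g q f s) :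
    IsPullback g (q ≫ θ.hom) f (S.fromSpecResidueField z) := by
  refine IsPullback.of_iso H (Iso.refl _) (Iso.refl _) θ (Iso.refl _) (by simp) (by simp) (by simp) (by simp [hθ])

/-- The point of `Spec k`. -/
theorem forall_mem {k : Type u} [Field k] {S : Scheme.{u}} (s : Spec (.of k) ⟶ S) (U : S.Opens)
    (h : s (IsLocalRing.closedPoint k) ∈ U) (x : Spec (.of k)) : s x ∈ U := by
  have : Subsingleton (PrimeSpectrum k) := inferInstance
  have : x = IsLocalRing.closedPoint k := Subsingleton.elim (α := PrimeSpectrum k) _ _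
  rw [this]
  exact h

end K354.RatPt
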