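import Groth.Agent.DEquiv.K354.Core
import Groth.Agent.DEquiv.K354.RatPt
import Groth.Prelude.Def_DualFM

/-!
# Families with a kernel which is the diagonal on a fibre
-/

set_option autoImplicit false
universe u
open CategoryTheory CategoryTheory.Limits AlgebraicGeometry
attribute [local instance] HasDerivedCategory.standard

namespace K354.Fam

open Groth.Agent

section Squares

variable {S S' X X' Y Y' : Scheme.{u}} {a : X ⟶ S} {b : Y ⟶ S} {g : S' ⟶ S} {a' : X' ⟶ S'} {b' : Y' ⟶ S'}
  {x : X' ⟶ X} {y : Y' ⟶ Y}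

/-- The fibre product of base changes. -/
theorem isPullback_prod (hx : IsPullback x a' a g) (hy : IsPullback y b' b g)
    (i : pullback a' b' ⟶ pullback a b) (h1 : i ≫ pullback.fst a b = pullback.fst a' b' ≫ x)
    (h2 : i ≫ pullback.snd a b = pullback.snd a' b' ≫ y) :
    IsPullback i (pullback.fst a' b' ≫ a') (pullback.fst a b ≫ a) g := by
  have e1 : IsPullback (i ≫ pullback.fst a b) (pullback.snd a' b') a (y ≫ b) := by
    rw [h1, hy.w]
    exact (IsPullback.of_hasPullback a' b').paste_horiz hx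
  have e2 : IsPullback i (pullback.snd a' b') (pullback.snd a b) y :=
    IsPullback.of_right e1 h2 (IsPullback.of_hasPullback a b)
  have e3 := e2.paste_vert hy
  rwa [← pullback.condition, ← pullback.condition] at e3

end Squares

/-- The core of S13556, with only `K` perfect. -/
theorem main (k : Type u) [Field k] {S Y Y₀ : Scheme.{u}} (pS : S ⟶ Spec (.of k)) [LocallyOfFiniteType pS] [CompactSpace S]
    (s : Spec (.of k) ⟶ S) (hs : s ≫ pS = 𝟙 _)
    (f : Y ⟶ S) [Flat f] [IsProper f] (c : Y₀ ⟶ Spec (.of k)) (y : Y₀ ⟶ Y) (hy : IsPullback y c f s)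
    (K : DCoh.D (pullback (pullback.snd c pS) f)) (hK : DCoh.IsPerfect K)
    (i : pullback c c ⟶ pullback (pullback.snd c pS) f)
    (hi₁ : i ≫ pullback.fst _ _ ≫ pullback.fst c pS = pullback.fst c c)
    (hi₂ : i ≫ pullback.snd _ _ = pullback.snd c c ≫ y)
    [DCoh.HasLpull i]
    (hKs : Nonempty ((DCoh.Lpull i).obj K ≅ FMK.diagO c)) :
    ∃ U : S.Opens, (∀ x, s.base x ∈ U) ∧
      ∃ e : pullback f U.ι ≅ pullback c (U.ι ≫ pS),
        e.hom ≫ pullback.snd c (U.ι ≫ pS) = pullback.snd f U.ι := by
  have hN' : IsLocallyNoetherian S := LocallyOfFiniteType.isLocallyNoetherian pS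
  have hN : IsNoetherian S := {}
  have hc : IsProper c := MorphismProperty.of_isPullback hy inferInstance
  have hcf : Flat c := MorphismProperty.of_isPullback hy inferInstance
  -- the fibre of the constant family
  let x : Y₀ ⟶ pullback c pS := pullback.lift (𝟙 _) (c ≫ s) (by rw [Category.assoc, hs, Category.comp_id, Category.id_comp])
  have hx1 : x ≫ pullback.fst c pS = 𝟙 _ := pullback.lift_fst _ _ _
  have hx2 : x ≫ pullback.snd c pS = c ≫ s := pullback.lift_snd _ _ _
  have hx : IsPullback x c (pullback.snd c pS) s := by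
    refine IsPullback.of_right (h₁₂ := pullback.fst c pS) (h₂₂ := pS) (v₁₃ := c) ?_ hx2
      (IsPullback.of_hasPullback c pS)
    rw [hx1, hs]
    exact IsPullback.of_horiz_isIso ⟨by simp⟩
  have hi₁' : i ≫ pullback.fst (pullback.snd c pS) f = pullback.fst c c ≫ x := by
    apply pullback.hom_ext
    · rw [Category.assoc, hi₁, Category.assoc, hx1, Category.comp_id]
    · rw [Category.assoc, Category.assoc, hx2, pullback.condition, ← Category.assoc i, hi₂, Category.assoc, hy.w,
        pullback.condition_assoc]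
  have H := isPullback_prod hx hy i hi₁' hi₂
  obtain ⟨θ, hθ⟩ := RatPt.exists_iso k pS s hs
  have hd1 : pullback.diagonal c ≫ i ≫ pullback.fst (pullback.snd c pS) f = x := by
    rw [hi₁', pullback.diagonal_fst_assoc]
  have hd2 : pullback.diagonal c ≫ i ≫ pullback.snd (pullback.snd c pS) f = y := by
    rw [hi₂, pullback.diagonal_snd_assoc]
  have hd3 : pullback.diagonal c ≫ (pullback.fst c c ≫ c) ≫ θ.hom = c ≫ θ.hom := by
    rw [Category.assoc, pullback.diagonal_fst_assoc]
  obtain ⟨e⟩ := hKs
  obtain ⟨U, hsU, ε, hε⟩ := Core.core (pullback.snd c pS) f (s (IsLocalRing.closedPoint k)) i _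
    (RatPt.isPullback_residue θ hθ H) K hK (pullback.diagonal c)
    (by rw [hd1, hd3]; exact RatPt.isPullback_residue θ hθ hx)
    (by rw [hd2, hd3]; exact RatPt.isPullback_residue θ hθ hy) e
  refine ⟨U, RatPt.forall_mem s U hsU, ε.symm ≪≫ pullbackLeftPullbackSndIso c pS U.ι, ?_⟩
  rw [Iso.trans_hom, Iso.symm_hom, Category.assoc, pullbackLeftPullbackSndIso_hom_snd, ← hε, Iso.inv_hom_id_assoc]

end K354.Fam
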