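import Groth.Agent.DEquiv.K354.Conv
import Groth.Agent.DEquiv.K354.DiagBC
import Groth.Agent.DEquiv.K354.Diag
import Groth.Agent.DEquiv.K354.Fam

/-!
# Families derived equivalent to a constant family
-/

set_option autoImplicit false

universe u

open CategoryTheory Limits MonoidalCategory AlgebraicGeometry

attribute [local instance] HasDerivedCategory.standard

open scoped Groth.Agent.Dcoh.MonCat Groth.Agent.Dcoh.ModD

attribute [local instance] Groth.Agent.Dcoh.DerPull.hasLpull Groth.Agent.Dcoh.DerSch.hasRpush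

namespace K354.Const

open Groth.Agent Groth.Agent.Dcoh K354.Tri K354.Conv FMK

variable {k : Type u} [Field k] {S : Scheme.{u}} (pS : S ⟶ Spec (.of k)) (σ : Spec (.of k) ⟶ S)
  (hσ : σ ≫ pS = 𝟙 _)

section Pt

variable {X : Scheme.{u}} (p : X ⟶ Spec (.of k))

/-- The fibre of the constant family. -/
noncomputable def pt : X ⟶ pullback p pS :=
  pullback.lift (𝟙 _) (p ≫ σ) (by rw [Category.assoc, hσ, Category.comp_id, Category.id_comp])

theorem pt_fst : pt pS σ hσ p ≫ pullback.fst p pS = 𝟙 _ := pullback.lift_fst _ _ _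

theorem pt_snd : pt pS σ hσ p ≫ pullback.snd p pS = p ≫ σ := pullback.lift_snd _ _ _

theorem isPullback_pt : IsPullback (pt pS σ hσ p) p (pullback.snd p pS) σ := by
  refine IsPullback.of_right (h₁₂ := pullback.fst p pS) (h₂₂ := pS) (v₁₃ := p) ?_ (pt_snd pS σ hσ p)
    (IsPullback.of_hasPullback p pS)
  rw [pt_fst, hσ]
  exact IsPullback.of_horiz_isIso ⟨by simp⟩

end Pt

/-- `Li^* Lπ^* K ≅ K` if `i ≫ π = 𝟙`. -/
theorem nonempty_retract {A B : Scheme.{u}} (i : A ⟶ B) (π : B ⟶ A) (h : i ≫ π = 𝟙 _) (K : DCoh.D A) :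
    Nonempty ((DCoh.Lpull i).obj ((DCoh.Lpull π).obj K) ≅ K) :=
  ⟨(DerPull.lpullCompIso i π).app K ≪≫ (DerPull.lpullCongr h).app K ≪≫ (K354.Diag.lpullId A).app K⟩

include hσ in
/-- S13562 at a rational point. -/
theorem main [LocallyOfFiniteType pS] [CompactSpace S] {X Y Y₀ : Scheme.{u}} (p : X ⟶ Spec (.of k)) [Smooth p] [IsProper p]
    (f : Y ⟶ S) [Smooth f] [IsProper f] (c : Y₀ ⟶ Spec (.of k)) (y : Y₀ ⟶ Y) (hy : IsPullback y c f σ)
    (K : DCoh.D (pullback (pullback.snd p pS) f)) (hK : DCoh.IsPerfect K)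
    (K' : DCoh.D (pullback f (pullback.snd p pS))) (hK' : DCoh.IsPerfect K')
    (e : convD f (pullback.snd p pS) f K' K ≅ diagO f) :
    ∃ U : S.Opens, (∀ x, σ.base x ∈ U) ∧
      ∃ e : pullback f U.ι ≅ pullback c (U.ι ≫ pS),
        e.hom ≫ pullback.snd c (U.ι ≫ pS) = pullback.snd f U.ι := by
  have hc : Smooth c := MorphismProperty.of_isPullback hy inferInstance
  have hcp : IsProper c := MorphismProperty.of_isPullback hy inferInstance
  have hx := isPullback_pt pS σ hσ p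
  have hx₀ := isPullback_pt pS σ hσ c
  -- kernels on the fibres
  let K'₀ : DCoh.D (pullback c p) := (DCoh.Lpull (gmp hy.w hx.w)).obj K'
  let K₀ : DCoh.D (pullback p c) := (DCoh.Lpull (gmp hx.w hy.w)).obj K
  obtain ⟨e1⟩ := convD_bc hy.w hx hy.w K' K (PerfA.QCohD.isQCohD_of_isPerfect _ hK')
    (PerfA.QCohD.isQCohD_of_isPerfect _ hK)
  obtain ⟨e2⟩ := K354.DiagBC.nonempty_iso hy
  let e3 : convD c p c K'₀ K₀ ≅ diagO c := e1.symm ≪≫ (DCoh.Lpull (gmp hy.w hy.w)).mapIso e ≪≫ e2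
  -- the kernel on the total space
  let π : pullback (pullback.snd c pS) (pullback.snd p pS) ⟶ pullback c p :=
    gmp (pullback.condition (f := c) (g := pS)) (pullback.condition (f := p) (g := pS))
  have hπ : gmp hx₀.w hx.w ≫ π = 𝟙 _ := by
    apply pullback.hom_ext
    · rw [Category.assoc, gmp_fst, ← Category.assoc, gmp_fst, Category.assoc, pt_fst, Category.comp_id,
        Category.id_comp]
    · rw [Category.assoc, gmp_snd, ← Category.assoc, gmp_snd, Category.assoc, pt_fst, Category.comp_id,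
        Category.id_comp]
  let M : DCoh.D (pullback (pullback.snd c pS) (pullback.snd p pS)) := (DCoh.Lpull π).obj K'₀
  have hK'₀ : DCoh.IsPerfect K'₀ := S0921.result _ _ hK'
  have hM : DCoh.IsPerfect M := S0921.result _ _ hK'₀
  obtain ⟨e4⟩ := convD_bc hx₀.w hx hy.w M K (PerfA.QCohD.isQCohD_of_isPerfect _ hM)
    (PerfA.QCohD.isQCohD_of_isPerfect _ hK)
  obtain ⟨e5⟩ := nonempty_retract (gmp hx₀.w hx.w) π hπ K'₀
  refine Fam.main k pS σ hσ f c y hy (convD (pullback.snd c pS) (pullback.snd p pS) f M K)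
    (isPerfect_convD _ _ _ hM hK) (gmp hx₀.w hy.w) ?_ (gmp_snd _ _)
    ⟨e4 ≪≫ convDIso e5 (Iso.refl _) ≪≫ e3⟩
  rw [← Category.assoc, gmp_fst, Category.assoc, pt_fst, Category.comp_id]

/-- S13562 -/
theorem exists_nhd (k : Type u) [Field k] [IsAlgClosed k] {X S Y : Scheme.{u}}
    (p : X ⟶ Spec (.of k)) [Smooth p] [IsProper p]
    (pS : S ⟶ Spec (.of k)) [LocallyOfFiniteType pS] [CompactSpace S]
    (f : Y ⟶ S) [Smooth f] [IsProper f]
    [∀ L : CochainComplex (FMK.T (Limits.pullback.snd p pS) f (Limits.pullback.snd p pS)).Modules ℤ, DCoh.HasLTensorCx L]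
    [∀ L : CochainComplex (FMK.T f (Limits.pullback.snd p pS) f).Modules ℤ, DCoh.HasLTensorCx L]
    (K : CochainComplex (Limits.pullback (Limits.pullback.snd p pS) f).Modules ℤ)
    (hK : FMK.IsRelEquivKernel (Limits.pullback.snd p pS) f K) (s : S) :
    ∃ U : S.Opens, s ∈ U ∧ ∃ (Y₀ : Scheme.{u}) (q : Y₀ ⟶ Spec (.of k)), Smooth q ∧ IsProper q ∧
      ∃ e : Limits.pullback f U.ι ≅ Limits.pullback q (U.ι ≫ pS),
        e.hom ≫ Limits.pullback.snd q (U.ι ≫ pS) = Limits.pullback.snd f U.ι := by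
  obtain ⟨hK1, K', hK', -, ⟨e⟩⟩ := hK
  obtain ⟨s₀, hs₀, hcl⟩ := IsClosed.exists_closed_singleton (X := S) (isClosed_closure (s := {s}))
    ⟨s, subset_closure rfl⟩
  have hspec : s ⤳ s₀ := specializes_iff_mem_closure.2 hs₀
  let σ : Spec (.of k) ⟶ S := pointOfClosedPoint pS s₀ hcl
  have hσ : σ ≫ pS = 𝟙 _ := pointOfClosedPoint_comp pS s₀ hcl
  obtain ⟨e'⟩ := nonempty_conv' f (pullback.snd p pS) f K' K
  obtain ⟨U, hU, e''⟩ := main pS σ hσ p f (pullback.snd f σ) (pullback.fst f σ) (IsPullback.of_hasPullback f σ)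
    (DCoh.toD _ K) hK1 (DCoh.toD _ K') hK' (e'.symm ≪≫ e.symm)
  have h0 : s₀ ∈ U := by
    have := hU (IsLocalRing.closedPoint k)
    have h1 : σ (IsLocalRing.closedPoint k) = s₀ := pointOfClosedPoint_apply pS s₀ hcl _
    rw [← h1]
    exact this
  exact ⟨U, hspec.mem_open U.2 h0, pullback f σ, pullback.snd f σ, inferInstance, inferInstance, e''⟩

end K354.Const
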