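import Groth.Agent.DEquiv.K354.Tri
import Groth.Agent.DEquiv.K354.FM
import Groth.Agent.Dual.H307.BcGen
import Groth.Agent.Dual.H362.TensAdj
import Groth.Agent.S0998
import Groth.Agent.S1002
import Groth.Agent.S0921
import Groth.Agent.Dcoh.PerfTens
import Groth.Agent.PerfB.FlatPull

/-!
# Convolution of kernels: monoidal form and base change

* `convD a b c K M = Rp₁₃_*(Lp₁₂^* K ⊗ Lp₂₃^* M)` on derived categories; `nonempty_conv'` compares `FMK.conv` with it;
* `isPerfect_convD`; `convD_bc`: base change (only the middle square has to be cartesian).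
-/

set_option autoImplicit false

universe u

open CategoryTheory Limits MonoidalCategory AlgebraicGeometry

attribute [local instance] HasDerivedCategory.standard

open scoped Groth.Agent.Dcoh.MonCat Groth.Agent.Dcoh.ModD

attribute [local instance] Groth.Agent.Dcoh.DerPull.hasLpull Groth.Agent.Dcoh.DerSch.hasRpush

namespace K354.Conv

open Groth.Agent.Dcoh K354.Adj K354.FM K354.Tri FMK

/-- Base change for direct images, as an isomorphism of functors on `D_QCoh`. -/
theorem nonempty_bc {X Y X' Y' : Scheme.{u}} {f : X ⟶ Y} {g : Y' ⟶ Y} {f' : X' ⟶ Y'} {g' : X' ⟶ X}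
    (sq : IsPullback g' f' f g) (hflat : Flat f ∨ Flat g) [QuasiCompact f] [QuasiSeparated f] :
    Nonempty (ObjectProperty.ι (DCoh.IsQCohD (X := X)) ⋙ DCoh.Rpush f ⋙ DCoh.Lpull g ≅
      ObjectProperty.ι (DCoh.IsQCohD (X := X)) ⋙ DCoh.Lpull g' ⋙ DCoh.Rpush f') := by
  exact ⟨NatIso.ofComponents (fun E => @asIso _ _ _ _ ((Groth.Agent.Dual.H307.MonSquare.beta sq.w).app E.obj)
    (Groth.Agent.Dual.H307.BcGen.isIso_beta hflat sq E.obj E.property))
    (fun φ => (Groth.Agent.Dual.H307.MonSquare.beta sq.w).naturality φ.hom)⟩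

/-- Two ways around a commutative square of derived pullbacks. -/
noncomputable def lpullSq {X Y X' Y' : Scheme.{u}} {f : X ⟶ Y} {g : Y' ⟶ Y} {f' : X' ⟶ Y'} {g' : X' ⟶ X}
    (w : g' ≫ f = f' ≫ g) :
    DCoh.Lpull f ⋙ DCoh.Lpull g' ≅ DCoh.Lpull g ⋙ DCoh.Lpull f' :=
  DerPull.lpullCompIso g' f ≪≫ DerPull.lpullCongr w ≪≫ (DerPull.lpullCompIso f' g).symm

/-- `cxPull f K` for flat `f`. -/
theorem nonempty_cxPull {X Y : Scheme.{u}} (f : X ⟶ Y) [Flat f] (K : CochainComplex Y.Modules ℤ) :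
    Nonempty (DCoh.toD X ((cxPull f).obj K) ≅ (DCoh.Lpull f).obj (DCoh.toD Y K)) :=
  ⟨(DerPull.lpullFlatQIso f K).symm⟩

section

variable {S X Y Z : Scheme.{u}} (a : X ⟶ S) (b : Y ⟶ S) (c : Z ⟶ S)

/-- The convolution on derived categories. -/
noncomputable def convD (K : DCoh.D (pullback a b)) (M : DCoh.D (pullback b c)) : DCoh.D (pullback a c) :=
  (DCoh.Rpush (p13 a b c)).obj ((DCoh.Lpull (p12 a b c)).obj K ⊗ (DCoh.Lpull (p23 a b c)).obj M)

variable {a b c} in
/-- Functoriality of the convolution in isomorphisms. -/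
noncomputable def convDIso {K K' : DCoh.D (pullback a b)} {M M' : DCoh.D (pullback b c)} (e : K ≅ K') (e' : M ≅ M') :
    convD a b c K M ≅ convD a b c K' M' :=
  (DCoh.Rpush (p13 a b c)).mapIso (tensorIso ((DCoh.Lpull (p12 a b c)).mapIso e) ((DCoh.Lpull (p23 a b c)).mapIso e'))

/-- The convolution in terms of the monoidal structure. -/
theorem nonempty_conv (K : CochainComplex (pullback a b).Modules ℤ) (L : CochainComplex (T a b c).Modules ℤ)
    [DCoh.HasLTensorCx L] (M : DCoh.D (pullback b c))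
    (e : Nonempty (DCoh.toD _ L ≅ (DCoh.Lpull (p23 a b c)).obj M)) :
    Nonempty (conv a b c K L ≅ convD a b c (DCoh.toD _ K) M) := by
  obtain ⟨e⟩ := e
  exact ⟨(DCoh.Rpush (p13 a b c)).mapIso ((ModTens.LTensorCxIso L).app _ ≪≫ whiskerLeftIso _ e)⟩

theorem nonempty_conv' [Flat a] (K : CochainComplex (pullback a b).Modules ℤ)
    (M : CochainComplex (pullback b c).Modules ℤ)
    [DCoh.HasLTensorCx ((cxPull (p23 a b c)).obj M)] :
    Nonempty (conv a b c K ((cxPull (p23 a b c)).obj M) ≅ convD a b c (DCoh.toD _ K) (DCoh.toD _ M)) :=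
  nonempty_conv a b c K _ _ (nonempty_cxPull (p23 a b c) M)

/-- The convolution of perfect kernels is perfect. -/
theorem isPerfect_convD [IsProper b] [Flat b] [LocallyOfFinitePresentation b]
    {K : DCoh.D (pullback a b)} {M : DCoh.D (pullback b c)} (hK : DCoh.IsPerfect K) (hM : DCoh.IsPerfect M) :
    DCoh.IsPerfect (convD a b c K M) :=
  Groth.Agent.S1002.result _ _
    (PerfTens.isPerfect_tensor (Groth.Agent.S0921.result _ _ hK) (Groth.Agent.S0921.result _ _ hM))

/-- The convolution of perfect kernels is perfect. -/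
theorem isPerfect_conv [Flat a] [IsProper b] [Flat b] [LocallyOfFinitePresentation b]
    (K : CochainComplex (pullback a b).Modules ℤ) (M : CochainComplex (pullback b c).Modules ℤ)
    (hK : DCoh.IsPerfect (DCoh.toD _ K)) (hM : DCoh.IsPerfect (DCoh.toD _ M))
    [DCoh.HasLTensorCx ((cxPull (p23 a b c)).obj M)] :
    DCoh.IsPerfect (conv a b c K ((cxPull (p23 a b c)).obj M)) := by
  obtain ⟨e⟩ := nonempty_conv' a b c K M
  exact Groth.Agent.PerfA.PerfLocal.isPerfect_of_iso e.symm (isPerfect_convD a b c hK hM)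

end

section BaseChange

variable {S S' X Y Z X' Y' Z' : Scheme.{u}} {a : X ⟶ S} {b : Y ⟶ S} {c : Z ⟶ S} {g : S' ⟶ S}
  {a' : X' ⟶ S'} {b' : Y' ⟶ S'} {c' : Z' ⟶ S'} {x : X' ⟶ X} {y : Y' ⟶ Y} {z : Z' ⟶ Z}

/-- Base change of the convolution. -/
theorem convD_bc [Flat b] [QuasiCompact b] [QuasiSeparated b]
    (hx : x ≫ a = a' ≫ g) (Hy : IsPullback y b' b g) (hz : z ≫ c = c' ≫ g)
    (K : DCoh.D (pullback a b)) (M : DCoh.D (pullback b c)) (hK : DCoh.IsQCohD K) (hM : DCoh.IsQCohD M) :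
    Nonempty ((DCoh.Lpull (gmp hx hz)).obj (convD a b c K M) ≅
      convD a' b' c' ((DCoh.Lpull (gmp hx Hy.w)).obj K) ((DCoh.Lpull (gmp Hy.w hz)).obj M)) := by
  obtain ⟨β⟩ := nonempty_bc (isPullback_gtp hx hz Hy) (Or.inl inferInstance)
  let _ := MonPull.monPull (gtp hx Hy.w hz)
  let _ := MonLpull182.lpullMonoidal (gtp hx Hy.w hz)
  let E : DCoh.DQCoh (T a b c) := ⟨(DCoh.Lpull (p12 a b c)).obj K ⊗
        (DCoh.Lpull (p23 a b c)).obj M, Groth.Agent.Dual.H362.TensAdj.isQCohD_tensor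
          (Groth.Agent.S1054.result _ _ hK) (Groth.Agent.S1054.result _ _ hM)⟩
  refine ⟨β.app E ≪≫ ?_⟩
  refine (DCoh.Rpush (FMK.p13 a' b' c')).mapIso ?_
  refine (Functor.Monoidal.μIso (DCoh.Lpull (gtp hx Hy.w hz)) _ _).symm ≪≫ ?_
  exact tensorIso ((lpullSq (gtp_p12 hx Hy.w hz)).app K) ((lpullSq (gtp_p23 hx Hy.w hz)).app M)

end BaseChange

end K354.Conv
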