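import Groth.Agent.Ega3B.FibreSpreadIso
import Groth.Agent.S0386
import Groth.Agent.Lift.K695.FlatProper

/-!
# Morphisms of proper schemes which are isomorphisms on a fibre, with flatness only at the points of the fibre

* `exists_isIso'`: EGA III 4.6.7 with flatness at the points of the fibre;
* `exists_iso`: two proper `S`-schemes `X`, `Y` with a correspondence `X ← Z → Y`, flat at the points of the fibre, which
  is an isomorphism on both sides on the fibre over `s`, are isomorphic near `s`.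
-/

set_option autoImplicit false
universe u

open AlgebraicGeometry CategoryTheory CategoryTheory.Limits TopologicalSpace

namespace K354.IsoNear

open Groth.Agent.Ega3B.FibreSpread Groth.Agent.Ega3B.FibreSpreadIso

variable {X Y Z : Scheme.{u}}

/-- If `f ∣_ V` has `P` and `y` has image in `V`, the base change of `f` along `y` has `P`. -/
theorem of_isPullback_of_le (P : MorphismProperty Scheme.{u}) [P.IsStableUnderBaseChange]
    {f : X ⟶ Y} {Q R : Scheme.{u}} {x : R ⟶ X} {m : R ⟶ Q} {y : Q ⟶ Y}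
    (H : IsPullback x m f y) (V : Y.Opens) (hV : P (f ∣_ V)) (hy : Set.range y ⊆ V) : P m := by
  obtain ⟨j, rfl⟩ : ∃ j : Q ⟶ (V : Scheme.{u}), y = j ≫ V.ι :=
    ⟨IsOpenImmersion.lift V.ι y (by rw [Scheme.Opens.range_ι]; exact hy), (IsOpenImmersion.lift_fac _ _ _).symm⟩
  exact P.of_isPullback (IsPullback.of_right' H (isPullback_morphismRestrict f V).flip) hV

/-- EGA III 4.6.7, with flatness only at the points of the fibre. -/
theorem exists_isIso' (f : X ⟶ Y) (h : Y ⟶ Z) [IsLocallyNoetherian Z] [IsProper (f ≫ h)] [IsProper h] (z : Z)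
    (hflat : ∀ x : X, (f ≫ h) x = z → ((f ≫ h).stalkMap x).hom.Flat)
    (hiso : IsIso (CohIII.fiberMapOver f (f ≫ h) h rfl z)) :
    ∃ U : Z.Opens, z ∈ U ∧ IsIso (f ∣_ (h ⁻¹ᵁ U)) := by
  have hf : IsProper f := .of_comp f h
  have hY : IsLocallyNoetherian Y := LocallyOfFiniteType.isLocallyNoetherian h
  have hlfp : LocallyOfFinitePresentation (f ≫ h) := inferInstance
  refine exists_of_forall_near (MorphismProperty.isomorphisms Scheme.{u}) f h z fun y hy => ?_
  subst hy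
  obtain ⟨V₀, hyV₀, hV₀⟩ := exists_isClosedImmersion_near' f _ h rfl y inferInstance
  have hN : IsOpen {x : X | ((f ≫ h).stalkMap x).hom.Flat} := Groth.Agent.S0386.result (f ≫ h)
  let V₁ : Y.Opens := ⟨(f '' {x : X | ((f ≫ h).stalkMap x).hom.Flat}ᶜ)ᶜ,
    (f.isClosedMap _ hN.isClosed_compl).isOpen_compl⟩
  have hyV₁ : y ∈ V₁ := by
    rintro ⟨x, hx, rfl⟩
    exact hx (hflat x rfl)
  let V : Y.Opens := V₀ ⊓ V₁
  have hyV : y ∈ V := ⟨hyV₀, hyV₁⟩
  have hcl : IsClosedImmersion (f ∣_ V) :=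
    of_isPullback_of_le @IsClosedImmersion (isPullback_morphismRestrict f V).flip V₀ hV₀ (by
      rw [Scheme.Opens.range_ι]
      exact fun _ hx => hx.1)
  have hfl : Flat ((f ∣_ V) ≫ (V.ι ≫ h)) := by
    rw [morphismRestrict_ι_assoc, Flat.iff_flat_stalkMap]
    intro x
    rw [K695.FlatProper.flat_stalkMap_comp_iff (f ⁻¹ᵁ V).ι (f ≫ h) x]
    by_contra hx
    exact x.2.2 ⟨_, hx, rfl⟩
  have hiso' : IsIso (CohIII.fiberMapOver (f ∣_ V) ((f ∣_ V) ≫ (V.ι ≫ h)) (V.ι ≫ h) rfl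
    ((V.ι ≫ h) ⟨y, hyV⟩)) :=
    fiberMapOver_baseChange (MorphismProperty.isomorphisms Scheme.{u}) h
      (isPullback_morphismRestrict f V) (h y) hiso
  obtain ⟨V', hyV', hV'⟩ := exists_isIso_near (f ∣_ V) (V.ι ≫ h) ⟨y, hyV⟩ hiso'
  refine ⟨V.ι ''ᵁ V', ⟨_, hyV', rfl⟩, ?_⟩
  exact (MorphismProperty.arrow_mk_iso_iff (MorphismProperty.isomorphisms Scheme.{u})
    (morphismRestrictRestrict f V V')).mp hV'

/-- The map of fibres, from cartesian squares. -/
theorem isIso_fiberMapOver (f : X ⟶ Y) (h : Y ⟶ Z) (z : Z) {D : Scheme.{u}} (x : D ⟶ X) (y : D ⟶ Y)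
    (r : D ⟶ Spec (Z.residueField z)) (hx : IsPullback x r (f ≫ h) (Z.fromSpecResidueField z))
    (hy : IsPullback y r h (Z.fromSpecResidueField z)) (w : x ≫ f = y) :
    IsIso (CohIII.fiberMapOver f (f ≫ h) h rfl z) := by
  obtain ⟨e₁, h1, h2⟩ : ∃ e : D ≅ (f ≫ h).fiber z, e.hom ≫ (f ≫ h).fiberι z = x ∧
      e.hom ≫ (f ≫ h).fiberToSpecResidueField z = r :=
    ⟨hx.isoPullback, hx.isoPullback_hom_fst, hx.isoPullback_hom_snd⟩
  obtain ⟨e₂, h3, h4⟩ : ∃ e : D ≅ h.fiber z, e.hom ≫ h.fiberι z = y ∧ e.hom ≫ h.fiberToSpecResidueField z = r :=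
    ⟨hy.isoPullback, hy.isoPullback_hom_fst, hy.isoPullback_hom_snd⟩
  have e : e₁.hom ≫ CohIII.fiberMapOver f (f ≫ h) h rfl z = e₂.hom := by
    have H : IsPullback (h.fiberι z) (h.fiberToSpecResidueField z) h (Z.fromSpecResidueField z) :=
      IsPullback.of_hasPullback h (Z.fromSpecResidueField z)
    apply H.hom_ext
    · rw [Category.assoc, fiberMapOver_fiberι f (f ≫ h) h rfl z, ← Category.assoc, h1, h3, w]
    · rw [Category.assoc, fiberMapOver_toSpec f (f ≫ h) h rfl z, h2, h4]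
  have : IsIso (e₁.hom ≫ CohIII.fiberMapOver f (f ≫ h) h rfl z) := by
    rw [e]
    infer_instance
  exact IsIso.of_isIso_comp_left e₁.hom _

/-- Two proper schemes with a correspondence which is an isomorphism on the fibre over `s`. -/
theorem exists_iso {S X Y Z D : Scheme.{u}} [IsLocallyNoetherian S] (a : X ⟶ S) (b : Y ⟶ S) [IsProper a] [IsProper b]
    (f : Z ⟶ X) (g : Z ⟶ Y) (w : f ≫ a = g ≫ b) [IsProper (f ≫ a)] (s : S)
    (hflat : ∀ x : Z, (f ≫ a) x = s → ((f ≫ a).stalkMap x).hom.Flat)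
    (z : D ⟶ Z) (r : D ⟶ Spec (S.residueField s)) (hz : IsPullback z r (f ≫ a) (S.fromSpecResidueField s))
    (hx : IsPullback (z ≫ f) r a (S.fromSpecResidueField s))
    (hy : IsPullback (z ≫ g) r b (S.fromSpecResidueField s)) :
    ∃ U : S.Opens, s ∈ U ∧ ∃ e : pullback a U.ι ≅ pullback b U.ι, e.hom ≫ pullback.snd b U.ι = pullback.snd a U.ι := by
  obtain ⟨U₁, hs₁, h₁⟩ := exists_isIso' f a s hflat (isIso_fiberMapOver f a s z _ r hz hx rfl)
  have hg : IsProper (g ≫ b) := by rw [← w]; infer_instance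
  obtain ⟨U₂, hs₂, h₂⟩ := exists_isIso' g b s (by rw [← w]; exact hflat)
    (isIso_fiberMapOver g b s z _ r (by rw [← w]; exact hz) hy rfl)
  let U := U₁ ⊓ U₂
  let m₁ : pullback (f ≫ a) U.ι ⟶ pullback a U.ι :=
    pullback.lift (pullback.fst _ _ ≫ f) (pullback.snd _ _) (by rw [Category.assoc, pullback.condition])
  let m₂ : pullback (f ≫ a) U.ι ⟶ pullback b U.ι :=
    pullback.lift (pullback.fst _ _ ≫ g) (pullback.snd _ _) (by rw [Category.assoc, ← w, pullback.condition])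
  have H₁ : IsPullback (pullback.fst (f ≫ a) U.ι) m₁ f (pullback.fst a U.ι) := by
    refine IsPullback.of_bot (h₃₁ := U.ι) (v₂₁ := pullback.snd a U.ι) (v₂₂ := a) ?_ (pullback.lift_fst _ _ _).symm
      (IsPullback.of_hasPullback a U.ι)
    rw [pullback.lift_snd]
    exact IsPullback.of_hasPullback (f ≫ a) U.ι
  have H₂ : IsPullback (pullback.fst (f ≫ a) U.ι) m₂ g (pullback.fst b U.ι) := by
    refine IsPullback.of_bot (h₃₁ := U.ι) (v₂₁ := pullback.snd b U.ι) (v₂₂ := b) ?_ (pullback.lift_fst _ _ _).symm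
      (IsPullback.of_hasPullback b U.ι)
    rw [pullback.lift_snd, ← w]
    exact IsPullback.of_hasPullback (f ≫ a) U.ι
  have i₁ : IsIso m₁ := of_isPullback_of_le (MorphismProperty.isomorphisms Scheme.{u}) H₁ (a ⁻¹ᵁ U₁) h₁ (by
    rintro _ ⟨t, rfl⟩
    have ht : a (pullback.fst a U.ι t) = U.ι (pullback.snd a U.ι t) := by
      rw [← Scheme.Hom.comp_apply, pullback.condition, Scheme.Hom.comp_apply]
    change a (pullback.fst a U.ι t) ∈ U₁
    rw [ht]
    exact (pullback.snd a U.ι t).2.1)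
  have i₂ : IsIso m₂ := of_isPullback_of_le (MorphismProperty.isomorphisms Scheme.{u}) H₂ (b ⁻¹ᵁ U₂) h₂ (by
    rintro _ ⟨t, rfl⟩
    have ht : b (pullback.fst b U.ι t) = U.ι (pullback.snd b U.ι t) := by
      rw [← Scheme.Hom.comp_apply, pullback.condition, Scheme.Hom.comp_apply]
    change b (pullback.fst b U.ι t) ∈ U₂
    rw [ht]
    exact (pullback.snd b U.ι t).2.2)
  refine ⟨U, ⟨hs₁, hs₂⟩, (asIso m₁).symm ≪≫ asIso m₂, ?_⟩
  rw [Iso.trans_hom, Iso.symm_hom, asIso_inv, asIso_hom, Category.assoc, IsIso.inv_comp_eq,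
    pullback.lift_snd, pullback.lift_snd]

end K354.IsoNear
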