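import Groth.Agent.DEquiv.K354.FibMod
import Groth.Agent.DEquiv.K354.GraphZ
import Groth.Agent.DEquiv.K354.IsoNear

/-!
# Kernels which are the diagonal on a fibre

`core`: `X`, `Y` proper and flat over a Noetherian scheme `S`, `L` perfect on `X ×_S Y` whose derived restriction to the
fibre over `s` is the structure sheaf of the graph of an isomorphism of the fibres.  Then `X` and `Y` are isomorphic near
`s`.
-/

set_option autoImplicit false
universe u
open CategoryTheory CategoryTheory.Limits AlgebraicGeometry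
attribute [local instance] HasDerivedCategory.standard

namespace K354.Core

open Groth.Agent

theorem isNoetherian_of_ft {X Y : Scheme.{u}} (f : X ⟶ Y) [LocallyOfFiniteType f] [QuasiCompact f] [IsNoetherian Y] :
    IsNoetherian X := by
  have := LocallyOfFiniteType.isLocallyNoetherian f
  have : CompactSpace X := QuasiCompact.compactSpace_of_compactSpace f
  exact {}

/-- Two closed immersions with the same kernel. -/
theorem exists_isPullback {V W D : Scheme.{u}} (g : W ⟶ V) (I : V.IdealSheafData) (δ : D ⟶ W) [IsClosedImmersion δ]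
    (h : I.comap g = δ.ker) : ∃ u : D ⟶ I.subscheme, IsPullback δ u g I.subschemeι := by
  have hk : (pullback.fst g I.subschemeι).ker = δ.ker := h
  let j : D ⟶ pullback g I.subschemeι := IsClosedImmersion.lift (pullback.fst g I.subschemeι) δ hk.le
  let j' : pullback g I.subschemeι ⟶ D := IsClosedImmersion.lift δ (pullback.fst g I.subschemeι) hk.ge
  have hj : j ≫ pullback.fst g I.subschemeι = δ := IsClosedImmersion.lift_fac _ _ _
  have hj' : j' ≫ δ = pullback.fst g I.subschemeι := IsClosedImmersion.lift_fac _ _ _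
  let e : D ≅ pullback g I.subschemeι :=
    { hom := j
      inv := j'
      hom_inv_id := by rw [← cancel_mono δ, Category.assoc, hj', hj, Category.id_comp]
      inv_hom_id := by rw [← cancel_mono (pullback.fst g I.subschemeι), Category.assoc, hj, hj', Category.id_comp] }
  refine ⟨j ≫ pullback.snd g I.subschemeι, ?_⟩
  refine IsPullback.of_iso (IsPullback.of_hasPullback g I.subschemeι) e.symm (Iso.refl _) (Iso.refl _) (Iso.refl _)
    ?_ ?_ (by simp) (by simp)
  · rw [Iso.refl_hom, Category.comp_id]
    exact hj'.symm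
  · rw [Iso.refl_hom, Category.comp_id]
    change pullback.snd g I.subschemeι = e.inv ≫ e.hom ≫ pullback.snd g I.subschemeι
    rw [Iso.inv_hom_id_assoc]

/-- Points of a fibre. -/
theorem exists_preimage {V W S : Scheme.{u}} {f : V ⟶ S} {s : S} {g : W ⟶ V} {q : W ⟶ Spec (S.residueField s)}
    (H : IsPullback g q f (S.fromSpecResidueField s)) (v : V) (hv : f v = s) : ∃ w : W, g w = v := by
  have h1 : v ∈ Set.range (f.fiberι s) := by
    rw [Scheme.Hom.range_fiberι]
    exact hv
  obtain ⟨t, ht⟩ := h1
  refine ⟨H.isoPullback.inv t, ?_⟩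
  rw [← Scheme.Hom.comp_apply, H.isoPullback_inv_fst]
  exact ht

theorem core {S X Y W D : Scheme.{u}} [IsNoetherian S] (a : X ⟶ S) (b : Y ⟶ S) [IsProper a] [Flat a]
    [IsProper b] [Flat b] (s : S) (g : W ⟶ pullback a b) (q : W ⟶ Spec (S.residueField s))
    (H : IsPullback g q (pullback.fst a b ≫ a) (S.fromSpecResidueField s)) [DCoh.HasLpull g]
    (L : DCoh.D (pullback a b)) (hL : DCoh.IsPerfect L) (δ : D ⟶ W) [IsClosedImmersion δ]
    (hx : IsPullback (δ ≫ g ≫ pullback.fst a b) (δ ≫ q) a (S.fromSpecResidueField s))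
    (hy : IsPullback (δ ≫ g ≫ pullback.snd a b) (δ ≫ q) b (S.fromSpecResidueField s))
    (e : (DCoh.Lpull g).obj L ≅ DCoh.inD W (GraphZ.pushO δ)) :
    ∃ U : S.Opens, s ∈ U ∧ ∃ e : pullback a U.ι ≅ pullback b U.ι,
      e.hom ≫ pullback.snd b U.ι = pullback.snd a U.ι := by
  have hprop : IsProper (pullback.fst a b ≫ a) := inferInstance
  have hV : IsNoetherian (pullback a b) := isNoetherian_of_ft (pullback.fst a b ≫ a)
  have hfp : LocallyOfFinitePresentation (pullback.fst a b ≫ a) := inferInstance
  obtain ⟨⟨e1⟩, hfl⟩ := FibMod.main H L hL (GraphZ.pushO δ) e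
  have hcoh := (S1006.result _ L hL).1 0
  have hF : Coh.IsQCoh (DCoh.HD L 0) := hcoh.1
  have hft : CohB1.IsFT (DCoh.HD L 0) := hcoh.2
  obtain ⟨u, hu⟩ := exists_isPullback g _ δ (GraphZ.comap_eq g (DCoh.HD L 0) hF hft δ e1)
  let I := Fitt.sheafIdeal (DCoh.HD L 0) 0
  have hw : (I.subschemeι ≫ pullback.fst a b) ≫ a = (I.subschemeι ≫ pullback.snd a b) ≫ b := by
    rw [Category.assoc, Category.assoc, pullback.condition]
  have hp : IsProper ((I.subschemeι ≫ pullback.fst a b) ≫ a) := inferInstance
  refine IsoNear.exists_iso a b (I.subschemeι ≫ pullback.fst a b) (I.subschemeι ≫ pullback.snd a b) hw s ?_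
    u (δ ≫ q) ?_ ?_ ?_
  · intro x hx'
    rw [Category.assoc] at hx' ⊢
    obtain ⟨w, hw⟩ := exists_preimage H (I.subschemeι x) (by
      rw [← Scheme.Hom.comp_apply]
      exact hx')
    refine GraphZ.flat_stalkMap (DCoh.HD L 0) hF hft (pullback.fst a b ≫ a) x ?_ ?_
    · rw [← hw]
      exact GraphZ.notMem_support_of_iso g _ hF hft δ e1 w
    · rw [← hw]
      exact hfl w
  · rw [Category.assoc]
    exact hu.flip.paste_vert H
  · rw [← Category.assoc, ← hu.w, Category.assoc]
    exact hx
  · rw [← Category.assoc, ← hu.w, Category.assoc]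
    exact hy

end K354.Core
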