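import Groth.Agent.PerfC.RelPerfPt
import Groth.Agent.PerfC.PullKFlat
import Groth.Agent.Dcoh.DerPull2
import Groth.Agent.FormalA.Support
import Groth.Agent.S1006
import Groth.Agent.Models2.FPCoh
import Groth.Agent.S0018

/-!
# Perfect complexes whose derived fibre is a module

`f : V ⟶ S` flat and locally of finite presentation, `g : W ⟶ V` the fibre over `s`, `L ∈ D(O_V)` perfect with
`H^i(Lg^* L) = 0` for `i ≠ 0`. Then `H^i(L)` vanishes at the points of the fibre for `i ≠ 0`, `F = H^0(L)` is flat over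
`S` at the points of the fibre and `Lg^* L ≅ g^* F`.
-/

set_option autoImplicit false
universe u
open CategoryTheory CategoryTheory.Limits AlgebraicGeometry
attribute [local instance] HasDerivedCategory.standard

namespace K354.FibFlat

open Groth.Agent.PerfC Groth.Agent.PerfC.RelFlatLpull Groth.Agent.PerfC.RelPerfPt Groth.Agent.PerfC.RelFlat
  Groth.Agent.Dcoh Groth.Agent.Dcoh.LocalD Groth.Agent.CycB.StalkExact

section Cx

variable {A : Type*} [Category* A] [Abelian A] (K : CochainComplex A ℤ) (i j : ℤ) (hij : i + 1 = j)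

/-- The image of `opcycles i ⟶ K^j`. -/
noncomputable abbrev Im : A := image (K.fromOpcycles i j)

lemma zero₁ : K.homologyι i ≫ factorThruImage (K.fromOpcycles i j) = 0 := by
  rw [← cancel_mono (image.ι (K.fromOpcycles i j)), Category.assoc, image.fac, K.homologyι_comp_fromOpcycles, zero_comp]

lemma zero₂ : image.ι (K.fromOpcycles i j) ≫ K.pOpcycles j = 0 := by
  rw [← cancel_epi (factorThruImage (K.fromOpcycles i j)), image.fac_assoc, comp_zero, ← cancel_epi (K.pOpcycles i),
    K.p_fromOpcycles_assoc, K.d_pOpcycles, comp_zero]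

/-- `0 ⟶ H^i ⟶ opcycles i ⟶ Im ⟶ 0` -/
noncomputable def seq₁ : ShortComplex A := ShortComplex.mk _ _ (zero₁ K i j)

/-- `0 ⟶ Im ⟶ K^j ⟶ opcycles j ⟶ 0` -/
noncomputable def seq₂ : ShortComplex A := ShortComplex.mk _ _ (zero₂ K i j)

include hij

lemma shortExact₁ : (seq₁ K i j).ShortExact where
  exact := by
    have h : (ShortComplex.mk (K.homologyι i) (K.fromOpcycles i j) (K.homologyι_comp_fromOpcycles i j)).Exact :=
      ShortComplex.exact_of_f_is_kernel _ (K.homologyIsKernel i j (by simp [← hij]))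
    let φ : seq₁ K i j ⟶ ShortComplex.mk (K.homologyι i) (K.fromOpcycles i j) (K.homologyι_comp_fromOpcycles i j) :=
      { τ₁ := 𝟙 _, τ₂ := 𝟙 _, τ₃ := image.ι _
        comm₁₂ := by simp [seq₁]
        comm₂₃ := by simp [seq₁] }
    have : Epi φ.τ₁ := inferInstanceAs (Epi (𝟙 (K.homology i)))
    have : IsIso φ.τ₂ := inferInstanceAs (IsIso (𝟙 (K.opcycles i)))
    have : Mono φ.τ₃ := inferInstanceAs (Mono (image.ι (K.fromOpcycles i j)))
    exact (ShortComplex.exact_iff_of_epi_of_isIso_of_mono φ).2 h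
  mono_f := by dsimp [seq₁]; infer_instance
  epi_g := by dsimp [seq₁]; infer_instance

lemma shortExact₂ : (seq₂ K i j).ShortExact where
  exact := by
    let φ : ShortComplex.mk (K.fromOpcycles i j) (K.pOpcycles j) (by
        rw [← cancel_epi (K.pOpcycles i), K.p_fromOpcycles_assoc, K.d_pOpcycles, comp_zero]) ⟶ seq₂ K i j :=
      { τ₁ := factorThruImage _, τ₂ := 𝟙 _, τ₃ := 𝟙 _
        comm₁₂ := by simp [seq₂]
        comm₂₃ := by simp [seq₂] }
    have : Epi φ.τ₁ := inferInstanceAs (Epi (factorThruImage (K.fromOpcycles i j)))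
    have : IsIso φ.τ₂ := inferInstanceAs (IsIso (𝟙 (K.X j)))
    have : Mono φ.τ₃ := inferInstanceAs (Mono (𝟙 (K.opcycles j)))
    exact (ShortComplex.exact_iff_of_epi_of_isIso_of_mono φ).1 (BddCx.exact_opcycles K i j hij)
  mono_f := by dsimp [seq₂]; infer_instance
  epi_g := by dsimp [seq₂]; infer_instance

end Cx

section Flat

variable {V S : Scheme.{u}} (f : V ⟶ S) (K : CochainComplex V.Modules ℤ)

lemma flatAt_im (i j : ℤ) (hij : i + 1 = j) (v : V) (h1 : FlatMod.IsFlatOverAt f (K.X j) v)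
    (h2 : FlatMod.IsFlatOverAt f (K.opcycles j) v) : FlatMod.IsFlatOverAt f (Im K i j) v :=
  isFlatOverAt_of_shortExact_left f _ (shortExact₂ K i j hij) v h1 h2

lemma flatAt_homology (i j : ℤ) (hij : i + 1 = j) (v : V) (h0 : FlatMod.IsFlatOverAt f (K.opcycles i) v)
    (h1 : FlatMod.IsFlatOverAt f (K.X j) v)
    (h2 : FlatMod.IsFlatOverAt f (K.opcycles j) v) : FlatMod.IsFlatOverAt f (K.homology i) v :=
  isFlatOverAt_of_shortExact_left f _ (shortExact₁ K i j hij) v h0 (flatAt_im f K i j hij v h1 h2)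

lemma flatAt_of_subsingleton (M : V.Modules) (v : V) (h : Subsingleton (M.presheaf.stalk v)) :
    FlatMod.IsFlatOverAt f M v := by
  let := FlatMod.moduleStalkOver f M v
  exact (inferInstance : Module.Flat (S.presheaf.stalk (f.base v)) (M.presheaf.stalk v))

lemma flatAt_opcycles (i j : ℤ) (hij : i + 1 = j) (v : V) (h0 : Subsingleton ((K.homology i).presheaf.stalk v))
    (h1 : FlatMod.IsFlatOverAt f (K.X j) v)
    (h2 : FlatMod.IsFlatOverAt f (K.opcycles j) v) : FlatMod.IsFlatOverAt f (K.opcycles i) v :=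
  isFlatOverAt_of_shortExact f _ (shortExact₁ K i j hij) v (flatAt_of_subsingleton f _ v h0)
    (flatAt_im f K i j hij v h1 h2)

lemma subsingleton_homology (i j : ℤ) (v : V)
    (h : Function.Injective (stalkLin (K.fromOpcycles i j) v)) : Subsingleton ((K.homology i).presheaf.stalk v) := by
  refine ⟨fun x y => stalkLin_injective (K.homologyι i) v (h ?_)⟩
  have h1 := congrArg (fun φ => stalkLin φ v) (K.homologyι_comp_fromOpcycles i j)
  have h2 : ∀ z, stalkLin (K.fromOpcycles i j) v (stalkLin (K.homologyι i) v z) = 0 := fun z => by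
    rw [← LinearMap.comp_apply, ← stalkLin_comp, K.homologyι_comp_fromOpcycles i j]
    change ((stalkFun v).map (0 : K.homology i ⟶ K.X j)).hom z = 0
    rw [(stalkFun v).map_zero]
    rfl
  rw [h2, h2]

end Flat

section Strict

variable {V W S : Scheme.{u}} {f : V ⟶ S} {s : S} {g : W ⟶ V} {q : W ⟶ Spec (S.residueField s)}

/-- The local computation. -/
theorem strict [Flat f] [LocallyOfFinitePresentation f]
    (H : IsPullback g q f (S.fromSpecResidueField s)) (y : W) [DCoh.HasLpull g]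
    (P : CochainComplex V.Modules ℤ) (hP : DCoh.IsStrictlyPerfect P)
    (hz : ∀ i : ℤ, i ≠ 0 → IsZero (DCoh.HD ((DCoh.Lpull g).obj (DerivedCategory.Q.obj P)) i)) :
    (∀ i : ℤ, i ≠ 0 → Subsingleton ((P.homology i).presheaf.stalk (g y))) ∧
      FlatMod.IsFlatOverAt f (P.homology 0) (g y) := by
  obtain ⟨⟨a, b, hab⟩, hP⟩ := hP
  have hA := PullKFlat.pullData g
  have hflat : ∀ i, FlatMod.IsFlat (P.X i) := fun i => Spread.isFlat_of_isFinLocFree (hP i)
  have hflat' : ∀ i, FlatMod.IsFlatOverAt f (P.X i) (g y) := fun i => isFlatOver_of_isFlat f (hflat i) _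
  have key : ∀ i : ℤ, i ≠ 0 → Function.Injective (stalkLin (P.fromOpcycles i (i + 1)) (g y)) ∧
      FlatMod.IsFlatOverAt f (P.opcycles (i + 1)) (g y) := fun i hi => by
    have hex : (((Scheme.Modules.pullback g).mapHomologicalComplex (ComplexShape.up ℤ)).obj P).ExactAt i := by
      rw [HomologicalComplex.exactAt_iff_isZero_homology]
      exact ((hz i hi).of_iso ((DerivedCategory.homologyFunctor W.Modules i).mapIso
        (lpullIso hA P b (fun i hi => hab i (Or.inr hi)) hflat).symm)).of_iso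
          ((DerivedCategory.homologyFunctorFactors W.Modules i).app _).symm
    have hmono := mono_map_fromOpcycles (Scheme.Modules.pullback g) P i hex
    obtain ⟨h1, h2⟩ := FibInj.injective_and_flat H y (isFP_opcycles P hP i)
      (Groth.Agent.Desc.FinLocFreeSections.isFP_of_isFinLocFree (hP (i + 1))) (P.fromOpcycles i (i + 1))
      (hflat' _) (Groth.Agent.CycB.StalkExact.stalkLin_injective _ y)
    obtain ⟨e⟩ := cokernel_fromOpcycles_iso P i (i + 1) rfl
    exact ⟨h1, RelFlat.isFlatOverAt_of_iso f e (g y) h2⟩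
  have h1 : ∀ i : ℤ, i ≠ 0 → Subsingleton ((P.homology i).presheaf.stalk (g y)) := fun i hi =>
    subsingleton_homology P i (i + 1) (g y) (key i hi).1
  refine ⟨h1, ?_⟩
  have h2 : FlatMod.IsFlatOverAt f (P.opcycles 0) (g y) := by
    have := (key (-1) (by omega)).2
    exact this
  have h3 : FlatMod.IsFlatOverAt f (P.opcycles 1) (g y) :=
    flatAt_opcycles f P 1 2 rfl (g y) (h1 1 (by omega)) (hflat' 2) (key 1 (by omega)).2
  exact flatAt_homology f P 0 1 rfl (g y) h2 (hflat' 1) h3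

end Strict

section Main

variable {V W S : Scheme.{u}} {f : V ⟶ S} {s : S} {g : W ⟶ V} {q : W ⟶ Spec (S.residueField s)}

/-- Pointwise statement for perfect complexes. -/
theorem pointwise [Flat f] [LocallyOfFinitePresentation f]
    (H : IsPullback g q f (S.fromSpecResidueField s)) [DCoh.HasLpull g]
    (L : DCoh.D V) (hL : DCoh.IsPerfect L)
    (hz : ∀ i : ℤ, i ≠ 0 → IsZero (DCoh.HD ((DCoh.Lpull g).obj L) i)) (y : W) :
    (∀ i : ℤ, i ≠ 0 → Subsingleton ((DCoh.HD L i).presheaf.stalk (g y))) ∧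
      FlatMod.IsFlatOverAt f (DCoh.HD L 0) (g y) := by
  obtain ⟨O, hO, P, hP, ⟨e⟩⟩ := (isPerfect_iff_locally L).1 hL (g y)
  have hl := DerPull.hasLpull (g ∣_ O)
  have H' : IsPullback (g ∣_ O) ((g ⁻¹ᵁ O).ι ≫ q) (O.ι ≫ f) (S.fromSpecResidueField s) :=
    (isPullback_morphismRestrict g O).paste_vert H
  let y' : (g ⁻¹ᵁ O : W.Opens) := ⟨y, hO⟩
  have hz' : ∀ i : ℤ, i ≠ 0 → IsZero (DCoh.HD ((DCoh.Lpull (g ∣_ O)).obj (DerivedCategory.Q.obj P)) i) := by
    intro i hi
    have e1 : (DCoh.Lpull (g ∣_ O)).obj (DerivedCategory.Q.obj P) ≅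
        (DCoh.restrictD (g ⁻¹ᵁ O).ι).obj ((DCoh.Lpull g).obj L) :=
      (DCoh.Lpull (g ∣_ O)).mapIso e.symm ≪≫
        ((DerPull.lpullRestrictIso (morphismRestrict_ι g O).symm).app L).symm
    refine IsZero.of_iso ?_ ((DerivedCategory.homologyFunctor _ i).mapIso e1 ≪≫ HDRestrict _ _ i)
    exact (Scheme.Modules.restrictFunctor (g ⁻¹ᵁ O).ι).map_isZero (hz i hi)
  obtain ⟨h1, h2⟩ := strict H' y' P hP hz'
  have e2 : ∀ i : ℤ, P.homology i ≅ (DCoh.HD L i).restrict O.ι := fun i =>
    ((DerivedCategory.homologyFunctorFactors _ i).app P).symm ≪≫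
      (DerivedCategory.homologyFunctor _ i).mapIso e.symm ≪≫ HDRestrict _ _ i
  have hy : O.ι ((g ∣_ O) y') = g y := by
    rw [← Scheme.Hom.comp_apply, morphismRestrict_ι, Scheme.Hom.comp_apply]
    rfl
  rw [← hy]
  constructor
  · intro i hi
    have h3 : Subsingleton (((DCoh.HD L i).restrict O.ι).presheaf.stalk ((g ∣_ O) y')) :=
      (stalkLinEquiv (e2 i) ((g ∣_ O) y')).symm.toEquiv.subsingleton_congr.2 (h1 i hi)
    exact (Groth.Agent.Ega3B.FlatRestrict.stalkEquiv O.ι (DCoh.HD L i) ((g ∣_ O) y')).symm.toEquiv.subsingleton_congr.2 h3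
  · have h3 := RelFlat.isFlatOverAt_of_iso (O.ι ≫ f) (e2 0) ((g ∣_ O) y') h2
    exact (Groth.Agent.Ega3B.FlatRestrict.isFlatOverAt_restrict_iff_comp f O.ι _ ((g ∣_ O) y')).1 h3

end Main

end K354.FibFlat
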