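import Groth.Agent.DEquiv.K354.Inv
import Groth.Agent.DEquiv.K354.FM
import Groth.Agent.Dual.H307.BcGen
import Groth.Agent.Dcoh.PerfTens
import Groth.Agent.S3616
import Groth.Agent.S3658
import Groth.Agent.S1002
import Groth.Agent.S1766
import Groth.Agent.S0998
import Groth.Prelude.Def_CxOX
import Groth.Prelude.Def_SGA6

/-!
# Relative dualizing complexes: invertibility for Gorenstein morphisms, base change
-/

set_option autoImplicit false

universe u

open CategoryTheory Limits MonoidalCategory AlgebraicGeometry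

attribute [local instance] HasDerivedCategory.standard

open scoped Groth.Agent.Dcoh.MonCat Groth.Agent.Dcoh.ModD

namespace K354.Gor

open Groth.Agent.Dcoh Groth.Agent.Dual.H320.InvPt K354.Adj K354.Inv

/-- `Lf^* O ≅ O`. -/
theorem nonempty_lpullO {X Y : Scheme.{u}} (f : X ⟶ Y) [DCoh.HasLpull f] :
    Nonempty ((DCoh.Lpull f).obj (DCoh.inD Y (Coh.structureModule Y)) ≅ DCoh.inD X (Coh.structureModule X)) := by
  let _ := MonPull.monPull f
  let _ := MonLpull182.lpullMonoidal f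
  exact ⟨(DCoh.Lpull f).mapIso (DualX.unitIso Y) ≪≫ (Functor.Monoidal.εIso (DCoh.Lpull f)).symm ≪≫
    (DualX.unitIso X).symm⟩

/-- The structure sheaf as an object of `D_QCoh`. -/
noncomputable def OQ (X : Scheme.{u}) : DCoh.DQCoh X :=
  ⟨DCoh.inD X (Coh.structureModule X), Groth.Agent.PerfA.QCohD.isQCohD_of_isPerfect _
    (Groth.Agent.PerfB.StructFlat.isPerfect_inD_structure (X := X))⟩

/-- The relative dualizing complex of a proper flat Gorenstein morphism is invertible. -/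
theorem isInv_dualizing {Y S : Scheme.{u}} [IsNoetherian S] (b : Y ⟶ S) [IsProper b] [Flat b]
    (hG : Dual3.IsGorensteinMor b) [DCoh.HasRpush b] (hR : DCoh.RpushPreservesQCoh b)
    (a : DCoh.DQCoh S ⥤ DCoh.DQCoh Y) (adj : DCoh.RpushQ b hR ⊣ a)
    (OS : DCoh.DQCoh S) (hOS : Nonempty (OS.obj ≅ DCoh.inD S (Coh.structureModule S))) :
    IsInv (a.obj OS).obj := by
  have : IsLocallyNoetherian Y := LocallyOfFiniteType.isLocallyNoetherian b
  let c : DEt.Compactification b :=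
    { Xbar := Y, j := 𝟙 Y, fbar := b, isOpenImmersion := inferInstance, isProper := inferInstance,
      fac := Category.id_comp b }
  have : Dual3.IsSepFT b := ⟨inferInstance, inferInstance, inferInstance⟩
  have : Dual3.IsSepFT (𝟙 S) := ⟨inferInstance, inferInstance, inferInstance⟩
  have h0 : DCoh.HasRpush c.fbar := ‹DCoh.HasRpush b›
  have h := (Groth.Agent.S3616.result S Y S b (𝟙 S) b (Category.comp_id b) c hR a adj OS hOS).1
  refine isInv_of_invAt fun y => ?_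
  have h1 := (invAt_iff _ y).2 ((h y).1 (hG y))
  exact InvAt.of_restrict (𝟙 Y) (K := (a.obj OS).obj) (z := y) h1

/-- Base change for relative dualizing complexes. -/
theorem nonempty_dualizing_bc {X Y X' Y' : Scheme.{u}} {f : X ⟶ Y} {g : Y' ⟶ Y} {f' : X' ⟶ Y'} {g' : X' ⟶ X}
    [CompactSpace X] [QuasiSeparatedSpace X] [CompactSpace Y] [QuasiSeparatedSpace Y]
    [CompactSpace X'] [QuasiSeparatedSpace X'] [CompactSpace Y'] [QuasiSeparatedSpace Y']
    (sq : IsPullback g' f' f g) [IsProper f] [Flat f] [LocallyOfFinitePresentation f]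
    [DCoh.HasRpush f] [DCoh.HasRpush f'] [DCoh.HasLpull g']
    (hf : DCoh.RpushPreservesQCoh f) (hf' : DCoh.RpushPreservesQCoh f')
    (a : DCoh.DQCoh Y ⥤ DCoh.DQCoh X) (adj : DCoh.RpushQ f hf ⊣ a)
    (a' : DCoh.DQCoh Y' ⥤ DCoh.DQCoh X') (adj' : DCoh.RpushQ f' hf' ⊣ a')
    (O : DCoh.DQCoh Y) (hO : Nonempty (O.obj ≅ DCoh.inD Y (Coh.structureModule Y)))
    (O' : DCoh.DQCoh Y') (hO' : Nonempty (O'.obj ≅ DCoh.inD Y' (Coh.structureModule Y'))) :
    Nonempty ((a'.obj O').obj ≅ (DCoh.Lpull g').obj (a.obj O).obj) := by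
  have hg : DCoh.HasLpull g := DerPull.hasLpull g
  have h1 : Groth.Agent.Ega1.ADualUniv.Univ f O.obj (a.obj O).obj :=
    Groth.Agent.Ega1.ADualUniv.univ_of_adj (h := hf) (a := a) adj O
  have h2 := Groth.Agent.Dual.H307.BcGen.univ_bc (Or.inl ‹Flat f›) sq
    (fun P hP => Groth.Agent.S1002.result f P hP) O.property h1
  obtain ⟨e⟩ := hO
  obtain ⟨e'⟩ := hO'
  obtain ⟨l⟩ := nonempty_lpullO g
  have h3 : Groth.Agent.Ega1.ADualUniv.Univ f' O'.obj (a'.obj O').obj :=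
    Groth.Agent.Ega1.ADualUniv.univ_of_adj (h := hf') (a := a') adj' O'
  exact h3.unique (h2.of_iso_right ((DCoh.Lpull g).mapIso e ≪≫ l ≪≫ e'.symm))

/-- `a ≅ Lq^*(-) ⊗ a(O)`. -/
theorem nonempty_twist {P Y : Scheme.{u}} [CompactSpace Y] [QuasiSeparatedSpace Y] (q : P ⟶ Y)
    [IsProper q] [Flat q] [LocallyOfFinitePresentation q] [DCoh.HasRpush q] [DCoh.HasLpull q]
    (hq : DCoh.RpushPreservesQCoh q) (a : DCoh.DQCoh Y ⥤ DCoh.DQCoh P) (adj : DCoh.RpushQ q hq ⊣ a)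
    (O : DCoh.DQCoh Y) (hO : Nonempty (O.obj ≅ DCoh.inD Y (Coh.structureModule Y))) (ω : DCoh.D P)
    (i : Nonempty ((a.obj O).obj ≅ ω)) :
    Nonempty (a ⋙ ObjectProperty.ι _ ≅ ObjectProperty.ι _ ⋙ DCoh.Lpull q ⋙ tensorRight ω) := by
  obtain ⟨i⟩ := i
  let E := DerivedCategory.Q.objPreimage (a.obj O).obj
  let eE : DerivedCategory.Q.obj E ≅ (a.obj O).obj := DerivedCategory.Q.objObjPreimageIso _
  have hE : DCoh.HasLTensorCx E := ModTens.hasLTensorCx E
  obtain ⟨e1⟩ := Groth.Agent.S3658.result P Y q hq a adj O hO E ⟨eE⟩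
  exact ⟨e1 ≪≫ Functor.isoWhiskerLeft (ObjectProperty.ι _ ⋙ DCoh.Lpull q)
      (ModTens.LTensorCxIso E ≪≫ (tensoringRight _).mapIso (eE ≪≫ i))⟩

section Main

variable {S X Y : Scheme.{u}} [IsNoetherian S] (a : X ⟶ S) (b : Y ⟶ S)

/-- The case of a Gorenstein source: the right adjoint. -/
theorem main_source [IsProper a] [Flat a] [LocallyOfFiniteType b] [QuasiCompact b]
    (K : CochainComplex (Limits.pullback a b).Modules ℤ) (hK : DCoh.IsPerfect (DCoh.toD _ K))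
    [DCoh.HasLpull (Limits.pullback.fst a b)] [DCoh.HasLTensorCx K] [DCoh.HasRpush (Limits.pullback.snd a b)]
    [DCoh.HasRSheafHom K]
    (hG : Dual3.IsGorensteinMor a)
    [DCoh.HasRpush a] (hRa : DCoh.RpushPreservesQCoh a) [DCoh.HasShriek a hRa]
    (OS : DCoh.DQCoh S) (hOS : OS.obj ≅ DCoh.inD S (Coh.structureModule S))
    (W : CochainComplex (Limits.pullback a b).Modules ℤ) [DCoh.HasLTensorCx W]
    (hW : Nonempty (DCoh.toD _ W ≅ (DCoh.Lpull (Limits.pullback.fst a b)).obj (DCoh.dualizingCx a hRa OS)))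
    [DCoh.HasLpull (Limits.pullbackSymmetry b a).hom]
    (K' : CochainComplex (Limits.pullback b a).Modules ℤ)
    (hK' : Nonempty (DCoh.toD _ K' ≅ (DCoh.Lpull (Limits.pullbackSymmetry b a).hom).obj
      ((DCoh.LTensorCx W).obj ((DCoh.RSheafHom K).obj (DCoh.inD _ (Coh.structureModule (Limits.pullback a b)))))))
    [DCoh.HasLpull (Limits.pullback.fst b a)] [DCoh.HasLTensorCx K'] [DCoh.HasRpush (Limits.pullback.snd b a)]
    {PX : ObjectProperty (DCoh.D X)} (hX : PX ≤ DCoh.IsQCohD)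
    {PY : ObjectProperty (DCoh.D Y)} (hY : PY ≤ DCoh.IsQCohD)
    (h : ∀ M : DCoh.D X, PX M → PY ((FMK.phi a b K).obj M))
    (h' : ∀ N : DCoh.D Y, PY N → PX ((FMK.phi b a K').obj N)) :
    DCoh.IsPerfect (DCoh.toD _ K') ∧
      Nonempty (FMK.phiOn a b K PX PY h ⊣ FMK.phiOn b a K' PY PX h') := by
  have hXn : IsNoetherian X := Groth.Agent.LoccohB.AdStruct.isNoetherian_of_finiteType a
  have hYn : IsNoetherian Y := Groth.Agent.LoccohB.AdStruct.isNoetherian_of_finiteType b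
  have hPn : IsNoetherian (pullback a b) :=
    Groth.Agent.LoccohB.AdStruct.isNoetherian_of_finiteType (pullback.snd a b)
  have hfp : LocallyOfFinitePresentation a := LocallyOfFinitePresentation.iff_locallyOfFiniteType.2 inferInstance
  have h1 : DCoh.HasRpush (pullback.fst a b) := DerSch.hasRpush _
  have h2 : DCoh.HasLpull (pullback.snd a b) := DerPull.hasLpull _
  let ω := DCoh.dualizingCx a hRa OS
  have hω : IsInv ω := isInv_dualizing a hG hRa _ (DCoh.shriekAdj a hRa) OS ⟨hOS⟩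
  obtain ⟨eW⟩ := hW
  have hWi : IsInv (DCoh.toD _ W) := (hω.pull (pullback.fst a b)).of_iso eW.symm
  let hp := DualX.exactPairing hK (ModTens.adjQ K)
  let Kd := (DCoh.RSheafHom K).obj (𝟙_ (DCoh.D (pullback a b)))
  have hKd : DCoh.IsPerfect Kd := DualX.isPerfect_dual hK (ModTens.adjQ K)
  let eKd : (DCoh.RSheafHom K).obj (DCoh.inD _ (Coh.structureModule (Limits.pullback a b))) ≅ Kd :=
    (DCoh.RSheafHom K).mapIso (DualX.unitIso _)
  obtain ⟨s⟩ := MonSymm293.weakSymm (DCoh.toD _ W)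
  -- the kernel
  let eT : (DCoh.LTensorCx W).obj
      ((DCoh.RSheafHom K).obj (DCoh.inD _ (Coh.structureModule (Limits.pullback a b)))) ≅ DCoh.toD _ W ⊗ Kd :=
    (ModTens.LTensorCxIso W).app _ ≪≫ whiskerRightIso eKd _ ≪≫ (s.app Kd).symm
  have hK'' : Nonempty (DCoh.toD _ K' ≅ (DCoh.Lpull (Limits.pullbackSymmetry b a).hom).obj
      (DCoh.toD _ W ⊗ Kd)) := by
    obtain ⟨e⟩ := hK'
    exact ⟨e ≪≫ (DCoh.Lpull (Limits.pullbackSymmetry b a).hom).mapIso eT⟩
  refine ⟨?_, ?_⟩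
  · obtain ⟨e⟩ := hK''
    exact Groth.Agent.PerfA.PerfLocal.isPerfect_of_iso e.symm
      (Groth.Agent.S0921.result _ _ (PerfTens.isPerfect_tensor hWi.1 hKd))
  · have hq : DCoh.RpushPreservesQCoh (pullback.snd a b) := fun M hM => Groth.Agent.S0998.result _ M hM
    have hla : (DCoh.RpushQ (pullback.snd a b) hq).IsLeftAdjoint := Groth.Agent.S1766.result _ _ _ hq
    let a' := (DCoh.RpushQ (pullback.snd a b) hq).rightAdjoint
    let adj' : DCoh.RpushQ (pullback.snd a b) hq ⊣ a' := Adjunction.ofIsLeftAdjoint _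
    obtain ⟨e1⟩ := nonempty_dualizing_bc (IsPullback.of_hasPullback a b) hRa hq _ (DCoh.shriekAdj a hRa)
      a' adj' OS ⟨hOS⟩ (OQ Y) ⟨Iso.refl _⟩
    obtain ⟨e2⟩ := nonempty_twist (pullback.snd a b) hq a' adj' (OQ Y) ⟨Iso.refl _⟩ (DCoh.toD _ W)
      ⟨e1 ≪≫ eW.symm⟩
    obtain ⟨e3⟩ := K354.FM.nonempty_phiSwap a b K' _ hK''
    exact adjRight (pullback.fst a b) (pullback.snd a b) (fun M hM => Groth.Agent.S0998.result _ M hM) hq
      (DCoh.toD _ K) Kd hK hKd a' adj' (DCoh.toD _ W) e2 hX hY (K354.FM.phiOnIso a b K _ _ h)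
      (Functor.isoWhiskerLeft (ObjectProperty.ι _) e3)

/-- The case of a Gorenstein target: the left adjoint. -/
theorem main_target [LocallyOfFiniteType a] [QuasiCompact a] [IsProper b] [Flat b]
    (K : CochainComplex (Limits.pullback a b).Modules ℤ) (hK : DCoh.IsPerfect (DCoh.toD _ K))
    [DCoh.HasLpull (Limits.pullback.fst a b)] [DCoh.HasLTensorCx K] [DCoh.HasRpush (Limits.pullback.snd a b)]
    [DCoh.HasRSheafHom K]
    (hG : Dual3.IsGorensteinMor b)
    [DCoh.HasRpush b] (hRb : DCoh.RpushPreservesQCoh b) [DCoh.HasShriek b hRb]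
    (OS : DCoh.DQCoh S) (hOS : OS.obj ≅ DCoh.inD S (Coh.structureModule S))
    [DCoh.HasLpull (Limits.pullback.snd a b)]
    (W : CochainComplex (Limits.pullback a b).Modules ℤ) [DCoh.HasLTensorCx W]
    (hW : Nonempty (DCoh.toD _ W ≅ (DCoh.Lpull (Limits.pullback.snd a b)).obj (DCoh.dualizingCx b hRb OS)))
    [DCoh.HasLpull (Limits.pullbackSymmetry b a).hom]
    (K' : CochainComplex (Limits.pullback b a).Modules ℤ)
    (hK' : Nonempty (DCoh.toD _ K' ≅ (DCoh.Lpull (Limits.pullbackSymmetry b a).hom).obj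
      ((DCoh.LTensorCx W).obj ((DCoh.RSheafHom K).obj (DCoh.inD _ (Coh.structureModule (Limits.pullback a b)))))))
    [DCoh.HasLpull (Limits.pullback.fst b a)] [DCoh.HasLTensorCx K'] [DCoh.HasRpush (Limits.pullback.snd b a)]
    {PX : ObjectProperty (DCoh.D X)} (hX : PX ≤ DCoh.IsQCohD)
    {PY : ObjectProperty (DCoh.D Y)} (hY : PY ≤ DCoh.IsQCohD)
    (h : ∀ M : DCoh.D X, PX M → PY ((FMK.phi a b K).obj M))
    (h' : ∀ N : DCoh.D Y, PY N → PX ((FMK.phi b a K').obj N)) :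
    DCoh.IsPerfect (DCoh.toD _ K') ∧
      Nonempty (FMK.phiOn b a K' PY PX h' ⊣ FMK.phiOn a b K PX PY h) := by
  have hXn : IsNoetherian X := Groth.Agent.LoccohB.AdStruct.isNoetherian_of_finiteType a
  have hYn : IsNoetherian Y := Groth.Agent.LoccohB.AdStruct.isNoetherian_of_finiteType b
  have hPn : IsNoetherian (pullback a b) :=
    Groth.Agent.LoccohB.AdStruct.isNoetherian_of_finiteType (pullback.fst a b)
  have hfp : LocallyOfFinitePresentation b := LocallyOfFinitePresentation.iff_locallyOfFiniteType.2 inferInstance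
  have h1 : DCoh.HasRpush (pullback.fst a b) := DerSch.hasRpush _
  let ω := DCoh.dualizingCx b hRb OS
  have hω : IsInv ω := isInv_dualizing b hG hRb _ (DCoh.shriekAdj b hRb) OS ⟨hOS⟩
  obtain ⟨eW⟩ := hW
  have hWi : IsInv (DCoh.toD _ W) := (hω.pull (pullback.snd a b)).of_iso eW.symm
  let hp := DualX.exactPairing hK (ModTens.adjQ K)
  let Kd := (DCoh.RSheafHom K).obj (𝟙_ (DCoh.D (pullback a b)))
  have hKd : DCoh.IsPerfect Kd := DualX.isPerfect_dual hK (ModTens.adjQ K)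
  let eKd : (DCoh.RSheafHom K).obj (DCoh.inD _ (Coh.structureModule (Limits.pullback a b))) ≅ Kd :=
    (DCoh.RSheafHom K).mapIso (DualX.unitIso _)
  let eT : (DCoh.LTensorCx W).obj
      ((DCoh.RSheafHom K).obj (DCoh.inD _ (Coh.structureModule (Limits.pullback a b)))) ≅ Kd ⊗ DCoh.toD _ W :=
    (ModTens.LTensorCxIso W).app _ ≪≫ whiskerRightIso eKd _
  have hK'' : Nonempty (DCoh.toD _ K' ≅ (DCoh.Lpull (Limits.pullbackSymmetry b a).hom).obj
      (Kd ⊗ DCoh.toD _ W)) := by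
    obtain ⟨e⟩ := hK'
    exact ⟨e ≪≫ (DCoh.Lpull (Limits.pullbackSymmetry b a).hom).mapIso eT⟩
  refine ⟨?_, ?_⟩
  · obtain ⟨e⟩ := hK''
    exact Groth.Agent.PerfA.PerfLocal.isPerfect_of_iso e.symm
      (Groth.Agent.S0921.result _ _ (PerfTens.isPerfect_tensor hKd hWi.1))
  · have hq : DCoh.RpushPreservesQCoh (pullback.fst a b) := fun M hM => Groth.Agent.S0998.result _ M hM
    have hla : (DCoh.RpushQ (pullback.fst a b) hq).IsLeftAdjoint := Groth.Agent.S1766.result _ _ _ hq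
    let a' := (DCoh.RpushQ (pullback.fst a b) hq).rightAdjoint
    let adj' : DCoh.RpushQ (pullback.fst a b) hq ⊣ a' := Adjunction.ofIsLeftAdjoint _
    obtain ⟨e1⟩ := nonempty_dualizing_bc (IsPullback.of_hasPullback a b).flip hRb hq _ (DCoh.shriekAdj b hRb)
      a' adj' OS ⟨hOS⟩ (OQ X) ⟨Iso.refl _⟩
    obtain ⟨e2⟩ := nonempty_twist (pullback.fst a b) hq a' adj' (OQ X) ⟨Iso.refl _⟩ (DCoh.toD _ W)
      ⟨e1 ≪≫ eW.symm⟩
    obtain ⟨e3⟩ := K354.FM.nonempty_phiSwap a b K' _ hK''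
    obtain ⟨hW1, W', hW', ⟨hpW⟩, ⟨i⟩⟩ := hWi
    exact adjLeft (pullback.fst a b) (pullback.snd a b) hq (fun M hM => Groth.Agent.S0998.result _ M hM)
      (DCoh.toD _ K) Kd hK hKd a' adj' (DCoh.toD _ W) W' hW1 hW' i e2 hX hY (K354.FM.phiOnIso a b K _ _ h)
      (Functor.isoWhiskerLeft (ObjectProperty.ι _) e3)

end Main

end K354.Gor
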