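import Groth.Agent.DEquiv.K354.Adj
import Groth.Agent.Dual.H364.InvD
import Groth.Agent.Dual.H320.InvPt
import Groth.Agent.PerfB.StructFlat
import Groth.Agent.PerfA.PerfLocal
import Groth.Agent.S0921

/-!
# Invertible objects of `D(O_X)`: perfectness and the inverse

* `InvAt K x` for all `x` (`X` locally Noetherian) gives a perfect inverse which is also the dual: `exists_inverse`.
* `exists_inverse_pull`: inverse data pull back.
-/

set_option autoImplicit false

universe u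

open CategoryTheory Limits MonoidalCategory AlgebraicGeometry

attribute [local instance] HasDerivedCategory.standard

open scoped Groth.Agent.Dcoh.MonCat Groth.Agent.Dcoh.ModD

namespace K354.Inv

open Groth.Agent.Dcoh Groth.Agent.Dual.H320.InvPt Groth.Agent.Dual.H364.InvD
  Groth.Agent.PerfC.DTens Groth.Agent.PerfC.RHomD

variable {X Y : Scheme.{u}}

/-- `L` has a perfect dual which is an inverse. -/
def IsInv (L : DCoh.D X) : Prop :=
  DCoh.IsPerfect L ∧ ∃ L' : DCoh.D X, DCoh.IsPerfect L' ∧ Nonempty (ExactPairing L L') ∧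
    Nonempty (L ⊗ L' ≅ 𝟙_ (DCoh.D X))

theorem isPerfect_of_invAt {L : DCoh.D X} (h : ∀ x : X, InvAt L x) : DCoh.IsPerfect L := by
  refine Groth.Agent.PerfA.PerfLocal.isPerfect_of_restrictD L fun x => ?_
  obtain ⟨U, j, hj, y, n, hy, ⟨e⟩⟩ := h x
  refine ⟨U, j, hj, y, hy, ?_⟩
  exact Groth.Agent.PerfA.PerfLocal.isPerfect_of_iso e.symm
    (Groth.Agent.PerfA.PerfLocal.isPerfect_shift
      (Groth.Agent.PerfB.StructFlat.isPerfect_inD_structure (X := U)) n)

theorem locInv_of_invAt {L : DCoh.D X} (h : ∀ x : X, InvAt L x) : LocInv L := by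
  intro x
  obtain ⟨U, j, hj, y, n, hy, ⟨e⟩⟩ := h x
  obtain ⟨V, hV, hyV, -⟩ := exists_isAffineOpen_mem_and_subset (U := (⊤ : U.Opens)) (x := y)
    (TopologicalSpace.Opens.mem_top _)
  let k : Spec (CommRingCat.of Γ(U, V)) ⟶ U := hV.fromSpec
  have hk : IsOpenImmersion k := hV.isOpenImmersion_fromSpec
  refine ⟨Γ(U, V), inferInstance, k ≫ j, inferInstance, n, ?_, ⟨?_⟩⟩
  · have h1 : y ∈ Set.range k := by
      have := hV.range_fromSpec
      rw [show Set.range k = (V : Set U) from this]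
      exact hyV
    obtain ⟨z, hz⟩ := h1
    exact ⟨z, by rw [Scheme.Hom.comp_apply, hz, hy]⟩
  · exact restrictTriv j (k ≫ j) k rfl L n e

/-- An object which is locally a shift of the structure sheaf is invertible. -/
theorem isInv_of_invAt [IsLocallyNoetherian X] {L : DCoh.D X} (h : ∀ x : X, InvAt L x) : IsInv L := by
  have hL := isPerfect_of_invAt h
  obtain ⟨L', hL', ⟨hp⟩⟩ := PerfDual.exists_exactPairing L hL
  obtain ⟨r⟩ := nonempty_rhSelf (locInv_of_invAt h)
  obtain ⟨f⟩ := PerfDual.nonempty_flipIso L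
  have e : tensorRight L' ≅ RH L :=
    ((tensorRightAdjunction L L').ofNatIsoLeft f.symm).rightAdjointUniq (rhAdj L)
  exact ⟨hL, L', hL', ⟨hp⟩, ⟨e.app L ≪≫ r ≪≫ DualX.unitIso X⟩⟩

/-- Inverse data pull back. -/
theorem IsInv.pull {L : DCoh.D Y} (h : IsInv L) (f : X ⟶ Y) [DCoh.HasLpull f] :
    IsInv ((DCoh.Lpull f).obj L) := by
  obtain ⟨hL, L', hL', ⟨hp⟩, ⟨i⟩⟩ := h
  let _ := MonPull.monPull f
  let _ := MonLpull182.lpullMonoidal f
  refine ⟨Groth.Agent.S0921.result f L hL, (DCoh.Lpull f).obj L', Groth.Agent.S0921.result f L' hL',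
    ⟨DualMap.mapPairing (DCoh.Lpull f) L L'⟩,
    ⟨Functor.Monoidal.μIso (DCoh.Lpull f) L L' ≪≫ (DCoh.Lpull f).mapIso i ≪≫
      (Functor.Monoidal.εIso (DCoh.Lpull f)).symm⟩⟩

theorem IsInv.of_iso {L M : DCoh.D X} (h : IsInv L) (e : L ≅ M) : IsInv M := by
  obtain ⟨hL, L', hL', ⟨hp⟩, ⟨i⟩⟩ := h
  exact ⟨Groth.Agent.PerfA.PerfLocal.isPerfect_of_iso e hL, L', hL', ⟨exactPairingCongrLeft e.symm⟩,
    ⟨whiskerRightIso e.symm L' ≪≫ i⟩⟩

end K354.Inv
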