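import Groth.Prelude.Def_DualFM
import Mathlib.AlgebraicGeometry.Morphisms.Flat
import Mathlib.AlgebraicGeometry.Morphisms.Proper
import Mathlib.AlgebraicGeometry.Morphisms.Smooth

/-!
# The triple products `FMK.T a b c` : cartesian squares, base change

* `isPullback_X : T ⟶ X` is a base change of ... : `IsPullback (p12 ≫ fst) p23 a (fst ≫ b)`;
* `isPullback_Y : IsPullback (p23 ≫ fst b c) (p13 a b c) b (snd a c ≫ c)`;
* `isPullback_Z : IsPullback (p23 ≫ snd b c) p12 c (snd a b ≫ b)`;
* `gmp`, `gtp`: the base change morphisms on double and triple products; `isPullback_gmp`, `isPullback_gtp`,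
  `isPullback_diag`.
-/

set_option autoImplicit false

universe u

open CategoryTheory Limits AlgebraicGeometry

namespace K354.Tri

open FMK

section

variable {S X Y Z : Scheme.{u}} (a : X ⟶ S) (b : Y ⟶ S) (c : Z ⟶ S)

theorem p_mid : p12 a b c ≫ pullback.snd a b = p23 a b c ≫ pullback.fst b c := pullback.condition

theorem isPullback_X : IsPullback (p12 a b c ≫ pullback.fst a b) (p23 a b c) a (pullback.fst b c ≫ b) :=
  ((IsPullback.of_hasPullback (pullback.snd a b) (pullback.fst b c)).flip.paste_vert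
    (IsPullback.of_hasPullback a b).flip).flip

theorem isPullback_XZ : IsPullback (p13 a b c) (p23 a b c) (pullback.snd a c) (pullback.snd b c) := by
  refine IsPullback.of_right (h₁₂ := pullback.fst a c) (h₂₂ := c) (v₁₃ := a) ?_ (p13_snd a b c)
    (IsPullback.of_hasPullback a c)
  rw [p13_fst, ← pullback.condition]
  exact isPullback_X a b c

theorem isPullback_Y : IsPullback (p23 a b c ≫ pullback.fst b c) (p13 a b c) b (pullback.snd a c ≫ c) :=
  (isPullback_XZ a b c).flip.paste_horiz (IsPullback.of_hasPullback b c)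

theorem isPullback_Z : IsPullback (p12 a b c) (p23 a b c ≫ pullback.snd b c) (pullback.snd a b ≫ b) c :=
  (IsPullback.of_hasPullback (pullback.snd a b) (pullback.fst b c)).paste_vert
    (IsPullback.of_hasPullback b c)

end

section General

variable {S S' X Y Z X' Y' Z' : Scheme.{u}} {a : X ⟶ S} {b : Y ⟶ S} {c : Z ⟶ S} {g : S' ⟶ S}
  {a' : X' ⟶ S'} {b' : Y' ⟶ S'} {c' : Z' ⟶ S'} {x : X' ⟶ X} {y : Y' ⟶ Y} {z : Z' ⟶ Z}

/-- `X' ×_{S'} Y' ⟶ X ×_S Y`. -/
noncomputable abbrev gmp (hx : x ≫ a = a' ≫ g) (hy : y ≫ b = b' ≫ g) : pullback a' b' ⟶ pullback a b :=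
  pullback.map a' b' a b x y g hx.symm hy.symm

theorem gmp_fst (hx : x ≫ a = a' ≫ g) (hy : y ≫ b = b' ≫ g) : gmp hx hy ≫ pullback.fst a b = pullback.fst _ _ ≫ x :=
  pullback.lift_fst _ _ _

theorem gmp_snd (hx : x ≫ a = a' ≫ g) (hy : y ≫ b = b' ≫ g) : gmp hx hy ≫ pullback.snd a b = pullback.snd _ _ ≫ y :=
  pullback.lift_snd _ _ _

/-- The morphism of triple products. -/
noncomputable def gtp (hx : x ≫ a = a' ≫ g) (hy : y ≫ b = b' ≫ g) (hz : z ≫ c = c' ≫ g) : T a' b' c' ⟶ T a b c :=
  pullback.lift (p12 _ _ _ ≫ gmp hx hy) (p23 _ _ _ ≫ gmp hy hz) (by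
    rw [Category.assoc, Category.assoc, gmp_snd, gmp_fst, ← Category.assoc, ← Category.assoc, p_mid])

variable (hx : x ≫ a = a' ≫ g) (hy : y ≫ b = b' ≫ g) (hz : z ≫ c = c' ≫ g)

theorem gtp_p12 : gtp hx hy hz ≫ p12 a b c = p12 _ _ _ ≫ gmp hx hy := pullback.lift_fst _ _ _

theorem gtp_p23 : gtp hx hy hz ≫ p23 a b c = p23 _ _ _ ≫ gmp hy hz := pullback.lift_snd _ _ _

theorem gtp_p13 : gtp hx hy hz ≫ p13 a b c = p13 _ _ _ ≫ gmp hx hz := by
  apply pullback.hom_ext
  · rw [Category.assoc, Category.assoc, p13_fst, gmp_fst, ← Category.assoc, ← Category.assoc, gtp_p12, p13_fst,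
      Category.assoc, Category.assoc, gmp_fst]
  · rw [Category.assoc, Category.assoc, p13_snd, gmp_snd, ← Category.assoc, ← Category.assoc, gtp_p23, p13_snd,
      Category.assoc, Category.assoc, gmp_snd]

theorem isPullback_gmp (Hx : IsPullback x a' a g) (Hy : IsPullback y b' b g) :
    IsPullback (gmp Hx.w Hy.w) (pullback.snd a' b' ≫ b') (pullback.snd a b ≫ b) g := by
  have h1 : IsPullback (pullback.fst a' b' ≫ x) (pullback.snd a' b') a (b' ≫ g) :=
    (IsPullback.of_hasPullback a' b').paste_horiz Hx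
  have h2 : IsPullback (gmp Hx.w Hy.w) (pullback.snd a' b') (pullback.snd a b) y := by
    refine IsPullback.of_right (h₁₂ := pullback.fst a b) (h₂₂ := b) (v₁₃ := a) ?_ (gmp_snd _ _)
      (IsPullback.of_hasPullback a b)
    rw [gmp_fst, Hy.w]
    exact h1
  exact h2.paste_vert Hy

/-- The square of triple products over the outer double products, if the middle square is cartesian. -/
theorem isPullback_gtp (Hy : IsPullback y b' b g) :
    IsPullback (gtp hx Hy.w hz) (p13 _ _ _) (p13 a b c) (gmp hx hz) := by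
  refine IsPullback.of_right (h₁₂ := p23 a b c ≫ pullback.fst b c) (h₂₂ := pullback.snd a c ≫ c) (v₁₃ := b) ?_
    (gtp_p13 hx Hy.w hz) (isPullback_Y a b c)
  have h := (isPullback_Y a' b' c').paste_horiz Hy
  have e1 : gtp hx Hy.w hz ≫ p23 a b c ≫ pullback.fst b c = (p23 _ _ _ ≫ pullback.fst _ _) ≫ y := by
    rw [← Category.assoc, gtp_p23, Category.assoc, gmp_fst, Category.assoc]
  have e2 : gmp hx hz ≫ pullback.snd a c ≫ c = (pullback.snd _ _ ≫ c') ≫ g := by
    rw [← Category.assoc, gmp_snd, Category.assoc, Category.assoc, hz]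
  rw [e1, e2]
  exact h

/-- The diagonal square. -/
theorem isPullback_diag (Hx : IsPullback x a' a g) :
    IsPullback x (pullback.diagonal a') (pullback.diagonal a) (gmp Hx.w Hx.w) := by
  refine IsPullback.of_bot (h₃₁ := g) (v₂₁ := pullback.snd a' a' ≫ a') (v₂₂ := pullback.snd a a ≫ a) ?_ ?_
    (isPullback_gmp Hx Hx)
  · rw [pullback.diagonal_snd_assoc, pullback.diagonal_snd_assoc]
    exact Hx
  · apply pullback.hom_ext
    · rw [Category.assoc, pullback.diagonal_fst, Category.comp_id, Category.assoc, gmp_fst,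
        pullback.diagonal_fst_assoc]
    · rw [Category.assoc, pullback.diagonal_snd, Category.comp_id, Category.assoc, gmp_snd,
        pullback.diagonal_snd_assoc]

end General

section BaseChange

variable {S S' X Y Z : Scheme.{u}} (a : X ⟶ S) (b : Y ⟶ S) (c : Z ⟶ S) (g : S' ⟶ S)

/-- `X' ×_{S'} Y' ⟶ X ×_S Y`. -/
noncomputable abbrev mp : pullback (pullback.snd a g) (pullback.snd b g) ⟶ pullback a b :=
  gmp (pullback.condition (f := a) (g := g)) (pullback.condition (f := b) (g := g))

end BaseChange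

section Props

variable {S X Y Z : Scheme.{u}} (a : X ⟶ S) (b : Y ⟶ S) (c : Z ⟶ S)

instance [Flat a] : Flat (p23 a b c) := MorphismProperty.of_isPullback (isPullback_X a b c) inferInstance

instance [Flat c] : Flat (p12 a b c) :=
  MorphismProperty.of_isPullback (isPullback_Z a b c).flip inferInstance

instance [Flat b] : Flat (p13 a b c) := MorphismProperty.of_isPullback (isPullback_Y a b c) inferInstance

instance [IsProper b] : IsProper (p13 a b c) := MorphismProperty.of_isPullback (isPullback_Y a b c) inferInstance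

instance [QuasiCompact b] : QuasiCompact (p13 a b c) :=
  MorphismProperty.of_isPullback (isPullback_Y a b c) inferInstance

instance [QuasiSeparated b] : QuasiSeparated (p13 a b c) :=
  MorphismProperty.of_isPullback (isPullback_Y a b c) inferInstance

instance [LocallyOfFinitePresentation b] : LocallyOfFinitePresentation (p13 a b c) :=
  MorphismProperty.of_isPullback (isPullback_Y a b c) inferInstance

end Props

end K354.Tri
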